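import Cfsg.Agent.Lib.HKS.M2

/-!
Moufang sets with abelian root groups and a four-group of conjugate involutions: coordinates.
-/

set_option autoImplicit false

namespace Cfsg.Lib.HKS

variable {G Ω A B F : Type*} [Group G] [MulAction G Ω] [AddCommGroup A] [AddCommGroup B] [Field F]
  {a : Ω} {p : A → Ω} {α : A → G} {j g g₂ g₃ n u x y : G} {r s t w : F}

theorem lin_of_comm {ι : Type*} (c : ι → F) (σ : ι → F ≃+* F)
    (cm : ∀ i k w, c i * σ i (c k * σ k w) = c k * σ k (c i * σ i w))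
    (tr : ∀ u v, u ≠ 0 → v ≠ 0 → ∃ i, c i * σ i u = v) (i : ι) (hi : c i ≠ 0) (w : F) : σ i w = w := by
  by_cases e : ∀ u, u ≠ 0 → u + c i * σ i u = 0
  · have e1 := e 1 one_ne_zero
    rcases eq_or_ne w 0 with rfl | hw
    · exact map_zero _
    · rw [map_one] at e1
      linear_combination -e w hw + σ i w * e1
  push Not at e
  obtain ⟨u, hu, e⟩ := e
  obtain ⟨k, e1⟩ := tr u _ hu e
  have e2 : ∀ y, c k * σ k y = y + c i * σ i y := fun y => by
    rcases eq_or_ne y 0 with rfl | hy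
    · simp
    · obtain ⟨l, rfl⟩ := tr u y hu hy
      rw [cm, e1, map_add, mul_add, cm l i]
  have e3 : ∀ y z, (y - σ i y) * (z - σ k z) = 0 := fun y z => by
    have a1 := e2 (y * z)
    have a2 := e2 y
    have a3 := e2 z
    have a4 := e2 1
    simp only [map_mul, map_one] at a1 a4
    linear_combination -a1 + σ k z * a2 + σ i y * a3 - σ i y * σ k z * a4
  by_contra l
  have e4 : ∀ z, σ k z = z := fun z =>
    (sub_eq_zero.1 ((mul_eq_zero.1 (e3 w z)).resolve_left (sub_ne_zero.2 (Ne.symm l)))).symm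
  have a1 := e2 w
  have a4 := e2 1
  rw [e4] at a1
  simp only [map_one] at a4
  exact l (mul_left_cancel₀ hi (by linear_combination -a1 + w * a4))

theorem exists_sq_add_sq_not_sq [Finite F] (h2 : (2 : F) ≠ 0) :
    ∃ u v : F, u ≠ 0 ∧ v ≠ 0 ∧ ¬ IsSquare (u ^ 2 + v ^ 2) := by
  have := Fintype.ofFinite F
  have hc : ringChar F ≠ 2 := fun e => h2 (by simpa using (ringChar.spec F 2).2 (e ▸ dvd_rfl))
  obtain ⟨ν, hν⟩ := FiniteField.exists_nonsquare hc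
  obtain ⟨u, v, e⟩ := FiniteField.exists_root_sum_quadratic (f := Polynomial.X ^ 2)
    (g := Polynomial.X ^ 2 - Polynomial.C ν) (Polynomial.degree_X_pow 2)
    (Polynomial.degree_X_pow_sub_C (by decide) _) (FiniteField.odd_card_of_char_ne_two hc)
  replace e : u ^ 2 + v ^ 2 = ν := by simp at e; linear_combination e
  exact ⟨u, v, fun l => hν ⟨v, by rw [← e, l]; ring⟩, fun l => hν ⟨u, by rw [← e, l]; ring⟩, e ▸ hν⟩

theorem sq_mul_of_not [Finite F] (h1 : ¬ IsSquare s) (h2 : ¬ IsSquare t) : IsSquare (s * t) := by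
  classical
  have := Fintype.ofFinite F
  rw [← quadraticChar_one_iff_isSquare (mul_ne_zero (fun e => h1 (by simp [e])) fun e => h2 (by simp [e])),
    map_mul, quadraticChar_neg_one_iff_not_isSquare.2 h1, quadraticChar_neg_one_iff_not_isSquare.2 h2]
  rfl

namespace MC

variable (h : MC a p α j) {E : B →+ A} (hE : Function.Bijective E)
include h hE

theorem comp : MC a (p ∘ E) (α ∘ E) j :=
  ⟨h.faith, h.inj.comp hE.1, fun _ => h.ne _, fun c l => by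
      obtain ⟨y, rfl⟩ := h.surj c l
      obtain ⟨z, rfl⟩ := hE.2 y
      exact ⟨z, rfl⟩, fun _ => h.αa _, fun s y => by simp [h.αp], fun g l s => by
      obtain ⟨y, e⟩ := h.nrm g l (E s)
      obtain ⟨z, rfl⟩ := hE.2 y
      exact ⟨z, e⟩, by simpa using h.j1, by simpa using h.j2⟩

theorem comp_μ {s : B} (l : h.Sp (E s)) : (h.comp hE).Sp s ∧ (h.comp hE).μ s = h.μ (E s) := by
  obtain ⟨⟨y, e⟩, e1⟩ := h.D_spec l.1
  obtain ⟨z, rfl⟩ := hE.2 y
  obtain ⟨e2, e3⟩ := (h.comp hE).D_eq (s := s) ⟨z, e⟩ e1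
  exact ⟨⟨e2, by simpa [← e3] using l.2⟩, by rw [μ, ← e3]; rfl⟩

end MC

/-- A four-group of conjugate involutions, with coordinates on the fixed points of `x`. -/
structure CV (h : MC a p α j) (x y : G) (e : F →+ A) : Prop where
  two : (2 : F) ≠ 0
  half : Function.Bijective fun s : A => s + s
  fx : Fx2 a (p 0) x
  fy : Fx2 a (p 0) y
  x2 : x * x = 1
  y2 : y * y = 1
  cm : x * y = y * x
  x1 : x ≠ 1
  y1 : y ≠ 1
  xy : x ≠ y
  einj : Function.Injective e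
  efix : ∀ s, x • p s = p s ↔ ∃ w, e w = s
  neg : ∀ u, Fx2 a (p 0) u → u * u = 1 → u * x = x * u → u ≠ 1 → u ≠ x →
    ∀ w, u • p (e w) = p (-e w)
  sl : ∀ g, Fx2 a (p 0) g → g * x = x * g → ∃ (c : F) (σ : F ≃+* F),
    ∀ w, g • p (e w) = p (e (c * σ w))
  sw : ∃ n : G, Sw2 a (p 0) n ∧ ∀ w, w ≠ 0 → n • p (e w) = p (e (-w⁻¹))

namespace CV

variable {h : MC a p α j} {e : F →+ A} (k : CV h x y e)
include k

theorem xe (w : F) : x • p (e w) = p (e w) := (k.efix _).2 ⟨w, rfl⟩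

theorem z2 : x * y * (x * y) = 1 := by
  rw [mul_assoc, ← mul_assoc y, ← k.cm, mul_assoc, k.y2, mul_one, k.x2]

theorem z1 : x * y ≠ 1 := fun l => k.xy (mul_right_cancel (l.trans k.y2.symm))

theorem e0 (hs : s ≠ 0) : e s ≠ 0 := fun l => hs (k.einj (l.trans (map_zero e).symm))

theorem D_e (hs : s ≠ 0) (ht : t ≠ 0) (hst : s + t ≠ 0) :
    h.D (e s) • p (e t) = p (e (s * t / (s + t))) := by
  obtain ⟨n, l, m⟩ := k.sw
  have e1 := m (-s⁻¹) (by simpa)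
  have e2 := m (-t⁻¹) (by simpa)
  rw [inv_neg, neg_neg, inv_inv] at e1 e2
  rw [← e2, ← h.sw_add l e1, ← map_add, show -t⁻¹ + -s⁻¹ = -((s + t) / (s * t)) by field_simp; ring,
    m _ (by simp [hs, ht, hst]), inv_neg, neg_neg, inv_div]

theorem sp (hs : s ≠ 0) : h.Sp (e s) := by
  obtain ⟨n, l, m⟩ := k.sw
  have e1 := m (-s⁻¹) (by simpa)
  have e2 := m s⁻¹ (by simpa)
  rw [inv_neg, neg_neg, inv_inv] at e1
  rw [inv_inv, map_neg] at e2
  exact ⟨k.e0 hs, by rw [← e2, ← h.sw_add l e1, ← map_add, add_neg_cancel, map_zero, l.2]⟩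

theorem m1 (hs : s ≠ 0) (hw : w ≠ 0) : h.μ (e s) • p (e w) = p (e (-s ^ 2 / w)) := by
  rcases eq_or_ne w (-s) with rfl | l
  · rw [map_neg, (k.sp hs).neg_self]; congr 2; field_simp
  have l' : w + s ≠ 0 := fun e' => l (eq_neg_of_add_eq_zero_left e')
  rw [MC.μ, mul_smul, mul_smul, h.αp, ← (k.sp hs).D_neg, ← map_add, ← map_neg,
    k.D_e (neg_ne_zero.2 hs) l' (by simpa), h.αp, ← map_add, neg_add_cancel_comm_assoc]
  congr 2; field_simp; ring

theorem m1' (hs : s ≠ 0) (hw : w ≠ 0) : (h.μ (e s))⁻¹ • p (e w) = p (e (-s ^ 2 / w)) := by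
  rw [← (k.sp hs).μ_neg, ← map_neg, k.m1 (neg_ne_zero.2 hs) hw, neg_sq]

theorem xμ (hs : s ≠ 0) : x * h.μ (e s) = h.μ (e s) * x := (k.sp hs).comm k.fx (k.xe s)

theorem mm (hs : s ≠ 0) (ht : t ≠ 0) (w : F) :
    (h.μ (e s) * h.μ (e t)) • p (e w) = p (e ((s / t) ^ 2 * w)) := by
  rcases eq_or_ne w 0 with rfl | hw
  · simpa using ((k.sp hs).sw.mul (k.sp ht).sw).2
  rw [mul_smul, k.m1 ht hw, k.m1 hs (by simp [*])]
  congr 2; field_simp

/-- The elements acting linearly on the line and centralizing its pointwise stabilizer. -/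
def Ld (_ : CV h x y e) : Subgroup G where
  carrier := {g | Fx2 a (p 0) g ∧ (∃ c, c ≠ 0 ∧ ∀ w, g • p (e w) = p (e (c * w))) ∧
    ∀ u, Fx2 a (p 0) u → (∀ w, u • p (e w) = p (e w)) → Commute u g}
  one_mem' := ⟨⟨one_smul _ _, one_smul _ _⟩, ⟨1, one_ne_zero, by simp⟩, fun u _ _ => .one_right u⟩
  mul_mem' := fun ⟨a1, ⟨c, c0, a2⟩, a3⟩ ⟨b1, ⟨d, d0, b2⟩, b3⟩ => ⟨a1.mul b1, ⟨c * d, mul_ne_zero c0 d0,
    fun w => by rw [mul_smul, b2, a2, mul_assoc]⟩, fun u l m => (a3 u l m).mul_right (b3 u l m)⟩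
  inv_mem' := fun ⟨a1, ⟨c, c0, a2⟩, a3⟩ => ⟨a1.inv, ⟨c⁻¹, inv_ne_zero c0, fun w => by
    rw [inv_smul_eq_iff, a2, mul_inv_cancel_left₀ c0]⟩, fun u l m => (a3 u l m).inv_right⟩

theorem mm_mem (hs : s ≠ 0) (ht : t ≠ 0) : h.μ (e s) * h.μ (e t) ∈ k.Ld :=
  ⟨(k.sp hs).sw.mul (k.sp ht).sw, ⟨_, by simp [*], k.mm hs ht⟩, fun u l m =>
    Commute.mul_right ((k.sp hs).comm l (m s)) ((k.sp ht).comm l (m t))⟩

theorem Ld_comm [Finite F] (l : g ∈ k.Ld) (m : n ∈ k.Ld) : g * n = n * g := by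
  choose c c0 hc using fun g : k.Ld => g.2.2.1
  let f : k.Ld →* Fˣ := MonoidHom.toHomUnits (MonoidHom.mk ⟨c, by
    simpa using (k.einj (h.inj (((hc 1 1).symm.trans (one_smul _ _)))))⟩ fun g n => by
      have := hc (g * n) 1
      rw [Subgroup.coe_mul, mul_smul, hc, hc] at this
      simpa using (k.einj (h.inj this)).symm)
  exact congrArg Subtype.val (commutative_of_cyclic_center_quotient f (fun u hu =>
    Subgroup.mem_center_iff.2 fun v => Subtype.ext (v.2.2.2 u u.2.1 fun w => by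
      rw [hc, show c u = 1 from congrArg Units.val hu, one_mul]).symm) ⟨g, l⟩ ⟨n, m⟩)

theorem μ8 [Finite F] (hs : s ≠ 0) : h.μ (e s) ^ 8 = 1 := by
  let z : F → G := fun s => h.μ (e s) * h.μ (e s)
  have zc : ∀ {s t}, s ≠ 0 → t ≠ 0 → Commute (z s) (h.μ (e t)) := fun {s t} hs ht =>
    (k.sp ht).comm ((k.sp hs).sw.mul (k.sp hs).sw) (by rw [k.mm hs hs, div_self hs]; simp)
  have zn : ∀ {s}, s ≠ 0 → z (-s) = (z s)⁻¹ := fun {s} hs => by
    simp only [z, map_neg, (k.sp hs).μ_neg, mul_inv_rev]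
  have zs : ∀ {s r}, s ≠ 0 → r ≠ 0 → z (r ^ 2 * s) = z s := fun {s r} hs hr => by
    have e1 := ((k.sp hs).conj ((k.sp hr).sw.mul (k.sp one_ne_zero).sw) (k.mm hr one_ne_zero s)).2
    rw [div_one] at e1
    simp only [z, ← e1, conj_mul]
    exact ((zc hs hr).mul_right (zc hs one_ne_zero)).symm.mul_inv_cancel
  have fin : ∀ {t}, t ≠ 0 → z t ^ 4 = 1 → h.μ (e t) ^ 8 = 1 := fun {t} _ l => by
    rw [show 8 = 2 * 4 from rfl, pow_mul, sq]; exact l
  by_cases l : IsSquare (-1 : F)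
  · obtain ⟨i, hi⟩ := l
    have := zs hs (r := i) (by rintro rfl; simp at hi)
    rw [sq, ← hi, neg_one_mul, zn hs, inv_eq_iff_mul_eq_one] at this
    exact fin hs (by rw [show 4 = 2 * 2 from rfl, pow_mul, sq (z s), this, one_pow])
  obtain ⟨u, v, hu, hv, m⟩ := exists_sq_add_sq_not_sq k.two
  obtain ⟨r, hr⟩ := sq_mul_of_not l m
  have r0 : r ≠ 0 := fun e' => m ⟨0, by rw [e'] at hr; linear_combination -hr⟩
  have s1 : u ^ 2 * s ≠ 0 := by simp [*]
  have s2 : v ^ 2 * s ≠ 0 := by simp [*]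
  have s3 : u ^ 2 * s + v ^ 2 * s = -(r ^ 2 * s) := by linear_combination -s * hr
  have s4 : -(r ^ 2 * s) ≠ 0 := by simp [*]
  have s5 : -((u * v / r) ^ 2 * s) ≠ 0 := by simp [*]
  have e1 := (k.sp s1).triple (k.sp s2) (by rw [← map_add, s3]; exact k.sp s4) (k.sp s5) (by
    rw [k.D_e s1 s2 (s3 ▸ s4), s3]; congr 2; field_simp)
  rw [← map_add, s3, ← (k.sp s1).μ_neg, ← (k.sp s2).μ_neg, ← (k.sp s5).μ_neg, ← map_neg, ← map_neg,
    ← map_neg] at e1
  have e2 := k.Ld_comm (k.mm_mem s4 (neg_ne_zero.2 s2)) (k.mm_mem (neg_ne_zero.2 s1) s4)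
  have e3 : z (- -((u * v / r) ^ 2 * s)) = z (-(u ^ 2 * s)) * z (-(r ^ 2 * s)) * z (-(v ^ 2 * s)) := by
    simpa only [z, e1, mul_assoc] using
      congrArg (h.μ (e (-(u ^ 2 * s))) * · * h.μ (e (-(v ^ 2 * s)))) e2
  rw [neg_neg, zn s1, zn s2, zn (neg_ne_zero.1 s4), zs hs hu, zs hs hv, zs hs r0, zs hs (by simp [*])]
    at e3
  refine fin hs ?_
  calc _ = z s * (z s * z s * z s) := by simp only [pow_succ, pow_zero, one_mul, mul_assoc]
    _ = _ := by nth_rewrite 1 [e3]; group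

theorem neg' {t : G} {s : A} (f : Fx2 a (p 0) g) (c : g * x * g⁻¹ = t) (l : Fx2 a (p 0) u)
    (u2 : u * u = 1) (m : u * t = t * u) (u1 : u ≠ 1) (ut : u ≠ t) (hs : t • p s = p s) :
    u • p s = p (-s) := by
  obtain ⟨s', e1⟩ := h.ex f.inv.1 s
  obtain ⟨w, rfl⟩ := (k.efix s').1 (by
    rw [← e1, ← mul_smul, show x * g⁻¹ = g⁻¹ * t by rw [← c]; group, mul_smul, hs])
  have := k.neg (g⁻¹ * u * g) ((f.inv.mul l).mul f) (by
      rw [show g⁻¹ * u * g * (g⁻¹ * u * g) = g⁻¹ * (u * u) * g by group, u2]; group) (by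
      rw [show x = g⁻¹ * t * g by rw [← c]; group]
      calc _ = g⁻¹ * (u * t) * g := by group
        _ = _ := by rw [m]; group)
    (fun e' => u1 (by rw [show u = g * (g⁻¹ * u * g) * g⁻¹ by group, e']; group))
    (fun e' => ut (by rw [← c, ← e']; group)) w
  rwa [← h.neg f.inv e1, ← e1, mul_smul, mul_smul, smul_inv_smul, smul_left_cancel_iff] at this

end CV

/-- The same with coordinates on all three lines. -/
structure MC3 {p : F × F × F → Ω} {α : F × F × F → G} (h : MC a p α j) (x y g₂ g₃ : G) : Prop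
    extends CV h x y (AddMonoidHom.inl F (F × F)) where
  f2 : Fx2 a (p 0) g₂
  f3 : Fx2 a (p 0) g₃
  c2 : g₂ * x * g₂⁻¹ = y
  c3 : g₃ * x * g₃⁻¹ = x * y
  a2 : ∀ w, g₂ • p (w, 0, 0) = p (0, w, 0)
  a3 : ∀ w, g₃ • p (w, 0, 0) = p (0, 0, w)
  hx : Dg a p x 1 (-1) (-1)
  hy : Dg a p y (-1) 1 (-1)

theorem CV.coord {h : MC a p α j} {e : F →+ A} (k : CV h x y e) (f2 : Fx2 a (p 0) g₂)
    (f3 : Fx2 a (p 0) g₃) (c2 : g₂ * x * g₂⁻¹ = y) (c3 : g₃ * x * g₃⁻¹ = x * y) :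
    ∃ (E : F × F × F →+ A) (hE : Function.Bijective E), (∀ w, E (w, 0, 0) = e w) ∧
      MC3 (h.comp hE) x y g₂ g₃ := by
  have ax : ∀ {g t : G}, Fx2 a (p 0) g → g * x * g⁻¹ = t → ∃ e' : F →+ A,
      (∀ w, g • p (e w) = p (e' w)) ∧ ∀ s, t • p s = p s ↔ ∃ w, e' w = s := fun {g t} f c => by
    choose e' he using fun w => h.ex f.1 (e w)
    refine ⟨AddMonoidHom.mk' e' fun v w => h.inj (by rw [← he, map_add, h.add f (he v) (he w)]), he,
      fun s => ?_⟩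
    obtain ⟨s', e1⟩ := h.ex f.inv.1 s
    rw [← c, mul_smul, mul_smul, ← eq_inv_smul_iff, e1, k.efix]
    exact exists_congr fun w => ⟨fun l => h.inj ((he w).symm.trans (inv_smul_eq_iff.1 (l ▸ e1)).symm),
      fun l => h.inj (by rw [← e1, ← l, eq_inv_smul_iff]; exact he w)⟩
  obtain ⟨e₂, a2, b2⟩ := ax f2 c2
  obtain ⟨e₃, a3, b3⟩ := ax f3 c3
  have fz := k.fx.mul k.fy
  have x2 : ∀ w, x • p (e₂ w) = p (-e₂ w) := fun w =>
    k.neg' f2 c2 k.fx k.x2 k.cm k.x1 k.xy ((b2 _).2 ⟨w, rfl⟩)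
  have x3 : ∀ w, x • p (e₃ w) = p (-e₃ w) := fun w => k.neg' f3 c3 k.fx k.x2 (by rw [mul_assoc, k.cm])
    k.x1 (fun l => k.y1 (left_eq_mul.1 l)) ((b3 _).2 ⟨w, rfl⟩)
  have y3 : ∀ w, y • p (e₃ w) = p (-e₃ w) := fun w => k.neg' f3 c3 k.fy k.y2
    (by rw [← mul_assoc, k.cm]) k.y1 (fun l => k.x1 (right_eq_mul.1 l)) ((b3 _).2 ⟨w, rfl⟩)
  let E : F × F × F →+ A := e.coprod (e₂.coprod e₃)
  have hx : ∀ u v w, x • p (E (u, v, w)) = p (E (1 * u, -1 * v, -1 * w)) := fun u v w => by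
    simpa [E] using h.add k.fx (k.xe u) (h.add k.fx (x2 v) (x3 w))
  have hy : ∀ u v w, y • p (E (u, v, w)) = p (E (-1 * u, 1 * v, -1 * w)) := fun u v w => by
    simpa [E] using h.add k.fy (k.neg y k.fy k.y2 k.cm.symm k.y1 k.xy.symm u)
      (h.add k.fy ((b2 _).2 ⟨v, rfl⟩) (y3 w))
  have hf : ∀ {s : A}, s = -s → s = 0 := fun {s} l => k.half.1 (by simpa using eq_neg_iff_add_eq_zero.1 l)
  have z0 : ∀ {g : G} {e' : F →+ A} {w}, Fx2 a (p 0) g → (∀ w, g • p (e w) = p (e' w)) → e' w = 0 →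
      w = 0 := fun {g e' w} f l m => by
    by_contra n
    exact k.e0 n (h.inj (smul_left_cancel g (by rw [l, m, f.2])))
  have hE : Function.Bijective E := ⟨(injective_iff_map_eq_zero E).2 fun ⟨u, v, w⟩ l => by
      have e1 := hx u v w
      have e2 := hy u v w
      rw [l, k.fx.2] at e1
      rw [l, k.fy.2] at e2
      replace e1 := h.inj e1
      replace e2 := h.inj e2
      simp only [E, AddMonoidHom.coprod_apply, one_mul, neg_mul, map_neg] at l e1 e2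
      have e3 : e u = 0 := hf (by rw [← sub_eq_zero, ← add_zero (0 : A)]; nth_rewrite 1 [← l, e1]; abel)
      have e4 : e₂ v = 0 := hf (by rw [← sub_eq_zero, ← add_zero (0 : A)]; nth_rewrite 1 [← l, e2]; abel)
      rw [e3, e4, zero_add, zero_add] at l
      rw [k.einj (e3.trans (map_zero e).symm), z0 f2 a2 e4, z0 f3 a3 l]; rfl, fun s => by
    obtain ⟨t, rfl⟩ := k.half.2 s
    obtain ⟨t, rfl⟩ := k.half.2 t
    obtain ⟨t1, e1⟩ := h.ex k.fx.1 t
    obtain ⟨t2, e2⟩ := h.ex k.fy.1 t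
    obtain ⟨t3, e3⟩ := h.ex fz.1 t
    have i1 : x • p t1 = p t := by rw [← e1, ← mul_smul, k.x2, one_smul]
    have i2 : y • p t2 = p t := by rw [← e2, ← mul_smul, k.y2, one_smul]
    have i3 : (x * y) • p t3 = p t := by rw [← e3, ← mul_smul, k.z2, one_smul]
    have j1 : x • p t2 = p t3 := by rw [← e2, ← e3, mul_smul]
    have j2 : y • p t1 = p t3 := by rw [← e1, ← e3, k.cm, mul_smul]
    have j3 : x • p t3 = p t2 := by rw [← j1, ← mul_smul, k.x2, one_smul]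
    have j4 : y • p t3 = p t1 := by rw [← j2, ← mul_smul, k.y2, one_smul]
    have z : t + t1 + (t2 + t3) = 0 := by
      obtain ⟨w, e4⟩ := (k.efix (t + t1 + (t2 + t3))).1 (by
        rw [h.add k.fx (h.add k.fx e1 i1) (h.add k.fx j1 j3)]; congr 1; abel)
      have := k.neg y k.fy k.y2 k.cm.symm k.y1 k.xy.symm w
      rw [e4, h.add k.fy (h.add k.fy e2 j2) (h.add k.fy i2 j4)] at this
      exact hf (Eq.trans (by abel) (h.inj this))
    obtain ⟨u, e4⟩ := (k.efix (t + t1)).1 (by rw [h.add k.fx e1 i1, add_comm])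
    obtain ⟨v, e5⟩ := (b2 (t + t2)).1 (by rw [h.add k.fy e2 i2, add_comm])
    obtain ⟨w, e6⟩ := (b3 (t + t3)).1 (by rw [h.add fz e3 i3, add_comm])
    refine ⟨(u + u, v + v, w + w), ?_⟩
    simp only [E, AddMonoidHom.coprod_apply, map_add, e4, e5, e6]
    rw [← sub_eq_zero, ← add_zero (0 : A)]
    nth_rewrite 1 [← z, ← z]
    abel⟩
  have E1 : ∀ w, E (w, 0, 0) = e w := fun w => by simp [E]
  have E0 : (p ∘ E) 0 = p 0 := by simp
  have E2 : ∀ w, (p ∘ E) (AddMonoidHom.inl F (F × F) w) = p (e w) := fun w => congrArg p (E1 w)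
  refine ⟨E, hE, E1, ⟨k.two, ⟨fun s t l => hE.1 (k.half.1 (by simpa using congrArg E l)), fun s => ?_⟩,
    E0 ▸ k.fx, E0 ▸ k.fy, k.x2, k.y2, k.cm, k.x1, k.y1, k.xy, fun u v l => (Prod.mk.inj l).1,
    fun s => (k.efix _).trans (exists_congr fun w => by rw [← E1, hE.1.eq_iff]; rfl),
    fun u l => by simpa only [← map_neg, E2] using k.neg u (E0 ▸ l),
    fun g l => by simpa only [E2] using k.sl g (E0 ▸ l), by simpa only [E2, E0] using k.sw⟩,
    E0 ▸ f2, E0 ▸ f3, c2, c3, fun w => by simpa [E] using a2 w, fun w => by simpa [E] using a3 w,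
    ⟨k.fx.1, hx⟩, k.fy.1, hy⟩
  obtain ⟨t, l⟩ := k.half.2 (E s)
  obtain ⟨t, rfl⟩ := hE.2 t
  exact ⟨t, hE.1 (by simpa using l)⟩

end Cfsg.Lib.HKS
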