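import Cfsg.Agent.Lib.HKS.M3

/-!
Moufang sets with abelian root groups and a four-group of conjugate involutions: type `SL₂`.
-/

set_option autoImplicit false

namespace Cfsg.Lib.HKS

variable {G Ω A F : Type*} [Group G] [MulAction G Ω] [AddCommGroup A] [Field F]
  {a c : Ω} {j g g₂ g₃ n u x y : G} {r s t w β : F}

theorem conj_of_inv (e : y * n * y⁻¹ = n⁻¹) (e2 : n * n = x) : n * y * n⁻¹ = x * y := by
  have : y * n⁻¹ * y⁻¹ = n := by rw [← conj_inv, e, inv_inv]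
  rw [← e2, mul_assoc n n, mul_assoc n, mul_inv_eq_iff_eq_mul.1 this]

namespace MC3

variable {p : F × F × F → Ω} {α : F × F × F → G} {h : MC a p α j} (k : MC3 h x y g₂ g₃)
include k

theorem hz : Dg a p (x * y) (-1) (-1) 1 := by simpa using k.hx.mul k.hy

theorem half0 (e : -s = s) : s = 0 :=
  (mul_eq_zero.1 (show 2 * s = 0 by linear_combination -e)).resolve_left k.two

theorem fix1 (l : c ≠ a) (e : x • c = c) : ∃ w, p (w, 0, 0) = c := by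
  obtain ⟨⟨u, v, w⟩, rfl⟩ := h.surj c l
  have := h.inj ((k.hx.2 u v w).symm.trans e)
  simp only [Prod.mk.injEq, neg_mul, one_mul] at this
  exact ⟨u, by rw [k.half0 this.2.1, k.half0 this.2.2]⟩

theorem fix2 (l : c ≠ a) (e : y • c = c) : ∃ w, p (0, w, 0) = c := by
  obtain ⟨⟨u, v, w⟩, rfl⟩ := h.surj c l
  have := h.inj ((k.hy.2 u v w).symm.trans e)
  simp only [Prod.mk.injEq, neg_mul, one_mul] at this
  exact ⟨v, by rw [k.half0 this.1, k.half0 this.2.2]⟩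

theorem sp1 (hs : s ≠ 0) : h.Sp (s, 0, 0) := k.sp hs

theorem sp2 (hs : s ≠ 0) : h.Sp (0, s, 0) ∧ g₂ * h.μ (s, 0, 0) * g₂⁻¹ = h.μ (0, s, 0) :=
  (k.sp1 hs).conj k.f2 (k.a2 s)

theorem sp3 (hs : s ≠ 0) : h.Sp (0, 0, s) ∧ g₃ * h.μ (s, 0, 0) * g₃⁻¹ = h.μ (0, 0, s) :=
  (k.sp1 hs).conj k.f3 (k.a3 s)

theorem m11 (hs : s ≠ 0) (hw : w ≠ 0) : h.μ (s, 0, 0) • p (w, 0, 0) = p (-s ^ 2 / w, 0, 0) :=
  k.m1 hs hw

theorem m22 (hs : s ≠ 0) (hw : w ≠ 0) : h.μ (0, s, 0) • p (0, w, 0) = p (0, -s ^ 2 / w, 0) := by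
  rw [← (k.sp2 hs).2, ← k.a2, mul_smul, mul_smul, inv_smul_smul, k.m11 hs hw, k.a2]

theorem m33 (hs : s ≠ 0) (hw : w ≠ 0) : h.μ (0, 0, s) • p (0, 0, w) = p (0, 0, -s ^ 2 / w) := by
  rw [← (k.sp3 hs).2, ← k.a3, mul_smul, mul_smul, inv_smul_smul, k.m11 hs hw, k.a3]

theorem ne_a (l : Sw2 a (p 0) n) {v : F × F × F} (hv : v ≠ 0) : n • p v ≠ a := fun e =>
  hv (h.inj (smul_left_cancel n (e.trans l.2.symm)))

theorem ne_0 (l : Sw2 a (p 0) n) {v v' : F × F × F} (e : p v' = n • p v) : v' ≠ 0 := fun e' =>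
  h.ne v (smul_left_cancel n (by rw [← e, e', l.1]))

end MC3

theorem MC3.sl2 [Finite F] {p : F × F × F → Ω} {α : F × F × F → G} {h : MC a p α j}
    (k : MC3 h x y (g * g) g) (hμ : ∀ s, s ≠ 0 → h.μ (s, 0, 0) * h.μ (s, 0, 0) = x) (b : β ≠ 0)
    (hg : g = h.μ (0, β, 0) * h.μ (1, 0, 0)) : False := by
  have g3 : ∀ w, g • p (0, 0, w) = p (0, w, 0) := fun w => by rw [← k.a3, ← mul_smul, k.a2]
  have cz : g * (x * y) * g⁻¹ = y := by
    calc _ = g * g * x * (g * g)⁻¹ := by rw [← k.c3]; group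
      _ = y := k.c2
  have cy : g * y * g⁻¹ = x := by
    calc _ = g * x * g⁻¹ * (g * (x * y) * g⁻¹) := by rw [conj_mul, ← mul_assoc x, k.x2, one_mul]
      _ = x := by rw [cz, k.c3, mul_assoc, k.y2, mul_one]
  have my : ∀ {s}, s ≠ 0 → h.μ (s, 0, 0) * y * (h.μ (s, 0, 0))⁻¹ = x * y := fun {s} hs =>
    conj_of_inv ((k.sp1 hs).conj_neg k.fy (by simpa using k.hy.2 s 0 0)) (hμ s hs)
  have mx : ∀ {s}, s ≠ 0 → h.μ (s, 0, 0) * x * (h.μ (s, 0, 0))⁻¹ = x := fun {s} hs =>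
    mul_inv_eq_iff_eq_mul.2 (k.xμ hs).symm
  have mz : ∀ {s}, s ≠ 0 → h.μ (s, 0, 0) * (x * y) = y * h.μ (s, 0, 0) := fun {s} hs => by
    rw [← mul_inv_eq_iff_eq_mul, ← conj_mul, mx hs, my hs, ← mul_assoc, k.x2, one_mul]
  have mn : ∀ {s}, s ≠ 0 → h.μ (-s, 0, 0) = (h.μ (s, 0, 0))⁻¹ := fun {s} hs => by
    simpa using (k.sp1 hs).μ_neg
  have m2 : ∀ {s c}, s ≠ 0 → c ≠ 0 → (∀ w, w ≠ 0 → h.μ (s, 0, 0) • p (0, 0, w) = p (0, -c / w, 0)) →
      ∀ w, w ≠ 0 → h.μ (s, 0, 0) • p (0, w, 0) = p (0, 0, c / w) := fun {s c} hs hc l w hw => by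
    have := l (-c / w) (by simp [hc, hw])
    rw [show -c / (-c / w) = w by field_simp] at this
    rw [← this, ← mul_smul, hμ s hs, k.hx.2]
    simp [neg_div]
  have n3 : ∀ w, w ≠ 0 → h.μ (1, 0, 0) • p (0, 0, w) = p (0, -β ^ 2 / w, 0) := fun w hw => by
    rw [eq_inv_mul_iff_mul_eq.2 hg.symm, mul_smul, g3, inv_smul_eq_iff, k.m22 b (by simp [b, hw])]
    congr 3; field_simp
  have n2 := m2 one_ne_zero (pow_ne_zero 2 b) n3
  have g2 : ∀ w, g • p (0, w, 0) = p ((β ^ 2)⁻¹ * w, 0, 0) := fun w => by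
    have e1 := ((k.sp2 b).1.sw_conj (k.sp1 one_ne_zero).sw (n2 β b)).2
    rw [show β ^ 2 / β = β by field_simp, ← (k.sp3 b).2] at e1
    have e2 : h.μ (0, β, 0) * h.μ (0, β, 0) = y := by rw [← (k.sp2 b).2, conj_mul, hμ β b, k.c2]
    have e3 : g * (g * g) = h.μ (1, 0, 0) * (x * y) * (h.μ (β, 0, 0))⁻¹ * y := by
      calc _ = g⁻¹ * ((g * h.μ (1, 0, 0) * g⁻¹) * (h.μ (0, β, 0) * h.μ (0, β, 0)) *
            (h.μ (1, 0, 0) * h.μ (0, β, 0) * (h.μ (1, 0, 0))⁻¹) * (h.μ (1, 0, 0) * h.μ (1, 0, 0))) * g := by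
            rw [hg]; group
        _ = _ := by
            rw [e1, e2, hμ 1 one_ne_zero]
            nth_rewrite 1 [← cz]
            nth_rewrite 2 [← cy]
            group
    rcases eq_or_ne w 0 with rfl | hw
    · simpa [Prod.mk_zero_zero] using k.f3.2
    rw [← k.a2, ← mul_smul, e3, mul_smul, mul_smul, mul_smul, k.hy.2, ← mn b]
    simp only [mul_zero]
    rw [k.m11 (neg_ne_zero.2 b) (by simpa), k.hz.2]
    simp only [mul_zero]
    rw [k.m11 one_ne_zero (by simp [b, hw])]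
    congr 2; field_simp
  have e001 : ((0, 0, 1) : F × F × F) ≠ 0 := by simp
  choose! φ hφ using fun s (hs : s ≠ 0) => k.fix2 (k.ne_a (k.sp1 hs).sw e001) (by
    rw [← mul_smul, ← mz hs, mul_smul, k.hz.2]; simp)
  have φ0 : ∀ {s}, s ≠ 0 → φ s ≠ 0 := fun {s} hs e =>
    k.ne_0 (k.sp1 hs).sw (hφ s hs) (by rw [e]; rfl)
  have φi : ∀ {s t}, s ≠ 0 → t ≠ 0 → φ s = φ t → s = t := fun {s t} hs ht e => by
    have f := (k.sp1 ht).sw.inv.mul (k.sp1 hs).sw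
    have d1 : ((h.μ (t, 0, 0))⁻¹ * h.μ (s, 0, 0)) • p (0, 0, 1) = p (0, 0, 1) := by
      rw [mul_smul, ← hφ s hs, e, hφ t ht, inv_smul_smul]
    have d2 : ((h.μ (t, 0, 0))⁻¹ * h.μ (s, 0, 0)) • p (0, φ s, 0) = p (0, φ s, 0) := by
      rw [mul_smul, inv_smul_eq_iff, hφ s hs, ← mul_smul, hμ s hs, ← hφ s hs, e, hφ t ht, ← mul_smul,
        hμ t ht]
    have q := k.sp2 (φ0 hs)
    obtain ⟨r, hr⟩ := k.fix1 (k.ne_a q.1.sw e001) (by
      rw [← mul_smul, show x * h.μ (0, φ s, 0) = h.μ (0, φ s, 0) * (x * y) by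
        have c1 : g * g * (x * y) * (g * g)⁻¹ = x := by
          calc _ = g * (g * (x * y) * g⁻¹) * g⁻¹ := by group
            _ = x := by rw [cz, cy]
        have c2 : g * g * y * (g * g)⁻¹ = x * y := by
          calc _ = g * (g * y * g⁻¹) * g⁻¹ := by group
            _ = _ := by rw [cy, k.c3]
        rw [← c2, ← q.2, conj_mul, mul_inv_eq_iff_eq_mul.1 (my (φ0 hs)) , ← conj_mul, c1],
        mul_smul, k.hz.2]; simp)
    have r0 : r ≠ 0 := fun e => k.ne_0 q.1.sw hr (by rw [e]; rfl)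
    have d3 := congrArg (· • p (0, 0, 1)) (q.1.comm f d2)
    simp only [mul_smul _ (h.μ (0, φ s, 0)), mul_smul (h.μ (0, φ s, 0)), d1, ← hr] at d3
    rw [← mn ht] at d3
    have d4 := (Prod.mk.inj (h.inj ((k.mm (neg_ne_zero.2 ht) hs r).symm.trans d3))).1
    field_simp at d4
    rcases sq_eq_sq_iff_eq_or_eq_neg.1 d4 with l | l
    · exact l.symm
    rw [l, mn hs, inv_inv, hμ s hs, k.hx.2] at d1
    exact absurd (k.half0 (by simpa using h.inj d1)) one_ne_zero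
  have φs : ∀ u, u ≠ 0 → ∃ s, s ≠ 0 ∧ φ s = u := fun u hu => by
    obtain ⟨s, e⟩ := Finite.injective_iff_surjective.1 (show Function.Injective
      fun s : {s : F // s ≠ 0} => (⟨φ s, φ0 s.2⟩ : {s : F // s ≠ 0}) from fun s t e =>
        Subtype.ext (φi s.2 t.2 (congrArg Subtype.val e))) ⟨u, hu⟩
    exact ⟨s, s.2, congrArg Subtype.val e⟩
  have sl : ∀ i : {s : F // s ≠ 0} × {s : F // s ≠ 0}, ∃ (c : F) (σ : F ≃+* F), ∀ w,
      (h.μ (i.1, 0, 0) * h.μ (i.2, 0, 0)) • p (0, w, 0) = p (0, c * σ w, 0) := fun i => by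
    obtain ⟨c, σ, e⟩ := k.sl ((g * g)⁻¹ * (h.μ (i.1, 0, 0) * h.μ (i.2, 0, 0)) * (g * g))
      ((k.f2.inv.mul ((k.sp1 i.1.2).sw.mul (k.sp1 i.2.2).sw)).mul k.f2) (by
        have e1 : h.μ (i.1, 0, 0) * h.μ (i.2, 0, 0) * y = y * (h.μ (i.1, 0, 0) * h.μ (i.2, 0, 0)) := by
          rw [mul_assoc, mul_inv_eq_iff_eq_mul.1 (my i.2.2), ← mul_assoc, mz i.1.2, mul_assoc]
        rw [show x = (g * g)⁻¹ * y * (g * g) by rw [← k.c2]; group]
        calc _ = (g * g)⁻¹ * (h.μ (i.1, 0, 0) * h.μ (i.2, 0, 0) * y) * (g * g) := by group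
          _ = _ := by rw [e1]; group)
    exact ⟨c, σ, fun w => by
      have := e w
      rw [mul_smul, mul_smul, inv_smul_eq_iff] at this
      rw [← k.a2, ← k.a2]
      exact this⟩
  choose c σ hc using sl
  have c0 : ∀ i, c i ≠ 0 := fun i e => by
    have := hc i 1
    rw [e, zero_mul] at this
    simpa using h.inj (smul_left_cancel _ (this.trans ((k.sp1 i.1.2).sw.mul (k.sp1 i.2.2).sw).2.symm))
  have lin := fun i => lin_of_comm c σ (fun i l w => by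
    have := congrArg (· • p (0, w, 0)) (k.Ld_comm (k.mm_mem i.1.2 i.2.2) (k.mm_mem l.1.2 l.2.2))
    simp only [mul_smul (_ * _)] at this
    erw [hc, hc, hc, hc] at this
    simpa using h.inj this) (fun u v hu hv => by
      obtain ⟨s, hs, rfl⟩ := φs u hu
      obtain ⟨t, ht, rfl⟩ := φs v hv
      have := hc (⟨t, ht⟩, ⟨-s, neg_ne_zero.2 hs⟩) (φ s)
      rw [mn hs, hφ s hs, mul_smul, inv_smul_smul, ← hφ t ht] at this
      exact ⟨_, by simpa using (h.inj this).symm⟩) i (c0 i)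
  have m3 : ∀ s, s ≠ 0 → ∀ w, w ≠ 0 → h.μ (s, 0, 0) • p (0, 0, w) = p (0, - -φ s / w, 0) := by
    intro s hs
    have e1 : ∀ w, w ≠ 0 → h.μ (s, 0, 0) • p (0, 0, w) =
        p (0, c (⟨s, hs⟩, ⟨-1, by simp⟩) * (-β ^ 2 / w), 0) := fun w hw => by
      rw [← lin _ (-β ^ 2 / w), ← hc, ← n3 w hw, mn one_ne_zero, mul_smul, inv_smul_smul]
    intro w hw
    have := h.inj ((hφ s hs).trans (e1 1 one_ne_zero))
    simp only [Prod.mk.injEq, true_and, and_true] at this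
    rw [e1 w hw, this]
    congr 3; ring
  have m2' := fun s hs => m2 hs (neg_ne_zero.2 (φ0 hs)) (m3 s hs)
  have hg' : ∀ u v w, g • p (u, v, w) = p ((β ^ 2)⁻¹ * v, w, u) := fun u v w => by
    simpa using h.add k.f3 (h.add k.f3 (k.a3 u) (g2 v)) (g3 w)
  refine SC.false (κ := fun s => -φ s) ⟨k.two, k.hx, k.hy, k.f3.1, hg', fun s => k.sp1, fun s hs w => k.m11 hs,
    m2', m3, fun s hs => neg_ne_zero.2 (φ0 hs), fun r hr => ?_, inv_mul_cancel₀ (pow_ne_zero 2 b), ?_, ?_⟩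
  · obtain ⟨s, hs, e⟩ := φs (-r) (neg_ne_zero.2 hr)
    exact ⟨s, hs, by simp [e]⟩
  · have := h.inj ((m3 1 one_ne_zero 1 one_ne_zero).symm.trans (n3 1 one_ne_zero))
    simp only [Prod.mk.injEq, true_and, and_true] at this
    linear_combination -this
  · have e1 : h.μ (0, β, 0) • p (1, 0, 0) = p (0, 0, -1) := by
      rw [eq_mul_inv_iff_mul_eq.2 hg.symm, mul_smul, ← mn one_ne_zero, k.m11 (by simp) one_ne_zero, k.a3]
      simp
    have e2 : (g * g) • p (0, 0, β ^ 2) = p (1, 0, 0) := by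
      rw [mul_smul, g3, g2, inv_mul_cancel₀ (pow_ne_zero 2 b)]
    rw [← (k.sp2 b).2, ← e2, mul_smul, mul_smul, inv_smul_smul, m3 β b _ (pow_ne_zero 2 b), mul_smul, g2,
      k.a3] at e1
    have := h.inj e1
    simp only [Prod.mk.injEq, true_and] at this
    field_simp at this
    linear_combination -this

theorem CV.sl2 [Finite F] {p : A → Ω} {α : A → G} {h : MC a p α j} {e : F →+ A} (k : CV h x y e)
    (f : Fx2 a (p 0) g) (c : g * x * g⁻¹ = y) (hμ : ∀ s, s ≠ 0 → h.μ (e s) * h.μ (e s) = x) :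
    False := by
  obtain ⟨b, hb⟩ := h.ex f.1 (e 1)
  have q := k.sp one_ne_zero
  obtain ⟨l, m⟩ := q.conj f hb
  have yb : y • p b = p b := by rw [← hb, ← c, mul_smul, mul_smul, inv_smul_smul, k.xe]
  have e1 : h.μ b * h.μ b = y := by rw [← m, conj_mul, hμ 1 one_ne_zero, c]
  have e2 := conj_of_inv (l.conj_neg k.fx (k.neg' f c k.fx k.x2 k.cm k.x1 k.xy yb)) e1
  have e3 := conj_of_inv (q.conj_neg k.fy (k.neg y k.fy k.y2 k.cm.symm k.y1 k.xy.symm 1))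
    (hμ 1 one_ne_zero)
  have e4 := mul_inv_eq_iff_eq_mul.2 (k.xμ one_ne_zero).symm
  have e5 := mul_inv_eq_iff_eq_mul.2 (l.comm k.fy yb).symm
  have c3 : h.μ b * h.μ (e 1) * x * (h.μ b * h.μ (e 1))⁻¹ = x * y := by
    rw [k.cm, ← e2]; nth_rewrite 2 [← e4]; group
  have f3 := l.sw.mul q.sw
  obtain ⟨E, hE, E1, k'⟩ := k.coord (f3.mul f3) f3 (by
    calc _ = h.μ b * h.μ (e 1) * (h.μ b * h.μ (e 1) * x * (h.μ b * h.μ (e 1))⁻¹) *
          (h.μ b * h.μ (e 1))⁻¹ := by group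
      _ = h.μ b * (h.μ (e 1) * x * (h.μ (e 1))⁻¹ * (h.μ (e 1) * y * (h.μ (e 1))⁻¹)) * (h.μ b)⁻¹ := by
          rw [c3]; group
      _ = y := by rw [e4, e3, ← mul_assoc x, k.x2, one_mul, e5]) c3
  obtain ⟨β, hβ⟩ := k'.fix2 (h.ne b) yb
  replace hβ : E (0, β, 0) = b := h.inj hβ
  have t1 : ∀ s, s ≠ 0 → (h.comp hE).μ (s, 0, 0) = h.μ (e s) := fun s hs => by
    rw [(h.comp_μ hE (E1 s ▸ k.sp hs)).2, E1]
  refine k'.sl2 (β := β) (fun s hs => by rw [t1 s hs, hμ s hs]) (fun e' => l.1 ?_) ?_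
  · rw [← hβ, e']; exact map_zero E
  · rw [t1 1 one_ne_zero, (h.comp_μ hE (hβ ▸ l)).2, hβ]

end Cfsg.Lib.HKS
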