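import Cfsg.Agent.Lib.HKS.M4

/-!
Moufang sets with abelian root groups and a four-group of conjugate involutions: type `PSL₂`.
-/

set_option autoImplicit false

namespace Cfsg.Lib.HKS

variable {G Ω A F : Type*} [Group G] [MulAction G Ω] [AddCommGroup A] [Field F]
  {a : Ω} {j g g₂ g₃ n n' t x y : G} {r w t₁ t₂ t₃ ν₁ ν₂ ν₃ κ₁ κ₂ κ₃ : F}

section J

variable {p : F × F × F → Ω} {α : F × F × F → G} {s b : F × F × F}

/-- `n` interchanges the base points and inverts the three coordinate lines. -/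
def J3 (a : Ω) (p : F × F × F → Ω) (n : G) (ν₁ ν₂ ν₃ : F) : Prop :=
  Sw2 a (p 0) n ∧ (ν₁ ≠ 0 ∧ ν₂ ≠ 0 ∧ ν₃ ≠ 0) ∧ ∀ w, w ≠ 0 → n • p (w, 0, 0) = p (ν₁ / w, 0, 0) ∧
    n • p (0, w, 0) = p (0, ν₂ / w, 0) ∧ n • p (0, 0, w) = p (0, 0, ν₃ / w)

theorem J3.mul (h : MC a p α j) (k : J3 a p n ν₁ ν₂ ν₃) (l : J3 a p n' κ₁ κ₂ κ₃) :
    Dg a p (n * n') (ν₁ / κ₁) (ν₂ / κ₂) (ν₃ / κ₃) := by
  have f := k.1.mul l.1
  refine h.dg f (fun w => ?_) (fun w => ?_) fun w => ?_ <;>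
    rcases eq_or_ne w 0 with rfl | hw <;> try simpa [Prod.mk_zero_zero] using f.2
  · rw [mul_smul, (l.2.2 w hw).1, (k.2.2 _ (div_ne_zero l.2.1.1 hw)).1, div_div_eq_mul_div,
      div_mul_eq_mul_div]
  · rw [mul_smul, (l.2.2 w hw).2.1, (k.2.2 _ (div_ne_zero l.2.1.2.1 hw)).2.1, div_div_eq_mul_div,
      div_mul_eq_mul_div]
  · rw [mul_smul, (l.2.2 w hw).2.2, (k.2.2 _ (div_ne_zero l.2.1.2.2 hw)).2.2, div_div_eq_mul_div,
      div_mul_eq_mul_div]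

theorem Dg.eq_one (h : MC a p α j) (k : Dg a p t t₁ t₂ t₃) (e1 : t₁ = 1) (e2 : t₂ = 1) (e3 : t₃ = 1) :
    t = 1 :=
  h.ext (by rw [k.1, one_smul]) fun ⟨u, v, w⟩ => by rw [k.2, e1, e2, e3]; simp

theorem J3.sq (h : MC a p α j) (k : J3 a p n ν₁ ν₂ ν₃) : n * n = 1 :=
  (k.mul h k).eq_one h (div_self k.2.1.1) (div_self k.2.1.2.1) (div_self k.2.1.2.2)

theorem Dg.ne (h : MC a p α j) (k : Dg a p t t₁ t₂ t₃) : t₁ ≠ 0 ∧ t₂ ≠ 0 ∧ t₃ ≠ 0 := by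
  refine ⟨fun e => ?_, fun e => ?_, fun e => ?_⟩
  · simpa using h.inj (smul_left_cancel t (((k.2 1 0 0).trans (by simp [e])).trans (k.2 0 0 0).symm))
  · simpa using h.inj (smul_left_cancel t (((k.2 0 1 0).trans (by simp [e])).trans (k.2 0 0 0).symm))
  · simpa using h.inj (smul_left_cancel t (((k.2 0 0 1).trans (by simp [e])).trans (k.2 0 0 0).symm))

theorem Dg.mulJ (h : MC a p α j) (k : Dg a p t t₁ t₂ t₃) (l : J3 a p n ν₁ ν₂ ν₃) :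
    J3 a p (t * n) (t₁ * ν₁) (t₂ * ν₂) (t₃ * ν₃) :=
  ⟨k.fx.mul_sw l.1, ⟨mul_ne_zero (k.ne h).1 l.2.1.1, mul_ne_zero (k.ne h).2.1 l.2.1.2.1,
    mul_ne_zero (k.ne h).2.2 l.2.1.2.2⟩, fun w hw => by
      simp only [mul_smul, l.2.2 w hw, k.2, mul_zero, mul_div_assoc, and_self]⟩

theorem Dg.pow (k : Dg a p t t₁ t₂ t₃) (m : ℕ) : Dg a p (t ^ m) (t₁ ^ m) (t₂ ^ m) (t₃ ^ m) := by
  induction m with
  | zero => exact ⟨by simp, by simp⟩
  | succ m ih => simpa only [pow_succ] using ih.mul k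

theorem Dg.sq {h : MC a p α j} (k : Dg a p t t₁ t₂ t₃) (q : h.Sp s) (l : J3 a p (h.μ s) ν₁ ν₂ ν₃)
    (e : t • p s = p s) : t₁ * t₁ = 1 ∧ t₂ * t₂ = 1 ∧ t₃ * t₃ = 1 := by
  have e1 := (k.mulJ h l).sq h
  rw [mul_assoc, ← mul_assoc (h.μ s), ← q.comm k.fx e, mul_assoc, l.sq h, mul_one] at e1
  have := (k.mul k).2 1 1 1
  rw [e1, one_smul] at this
  simpa [eq_comm] using h.inj this

theorem MC.Sp.not_fix {h : MC a p α j} (q : h.Sp s) (q' : h.Sp b) (s2 : h.μ s * h.μ s = 1)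
    (b2 : h.μ b * h.μ b = 1) (φ : F × F × F →+ F) (h2 : (2 : F) ≠ 0) (hs : φ s ≠ 0) (hb : φ b = 0)
    (e : (h.μ s * h.μ b) • p s = p s) (e' : ∀ v v', (h.μ s * h.μ b) • p v = p v' → φ v' = φ v) :
    False := by
  have f := q.sw.mul q'.sw
  have := e' _ _ (q.inverts q' (fun l => hs (by simpa [hb] using congrArg φ l)) f (by
    rw [← mul_assoc, q.comm f e, ← mul_assoc, s2, one_mul, b2]) (by
    rw [mul_inv_cancel_right, inv_eq_iff_mul_eq_one, s2]))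
  simp only [map_sub, hb] at this
  exact hs ((mul_eq_zero.1 (show 2 * φ s = 0 by linear_combination -this)).resolve_left h2)

theorem J3.comm (h : MC a p α j) (l : J3 a p n ν₁ ν₂ ν₃) (k : Dg a p t t₁ t₂ t₃) (e : t * t = 1) :
    n * t = t * n := by
  rw [eq_inv_of_mul_eq_one_left ((k.mulJ h l).sq h), mul_inv_rev, inv_eq_of_mul_eq_one_right e,
    inv_eq_of_mul_eq_one_right (l.sq h)]

theorem MC.Sp.comm' {h : MC a p α j} (q : h.Sp s) (s2 : h.μ s * h.μ s = 1) (f : Fx2 a (p 0) t)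
    (e : t • p s = p s ∨ t • p s = p (-s)) : h.μ s * t = t * h.μ s := by
  rcases e with e | e
  · exact (q.comm f e).symm
  · exact (mul_inv_eq_iff_eq_mul.1 ((q.conj_neg f e).trans (inv_eq_of_mul_eq_one_right s2))).symm

theorem sq_div_of_not [Finite F] (h1 : ¬ IsSquare r) (h2 : ¬ IsSquare w) : IsSquare (r / w) := by
  obtain ⟨u, e⟩ := sq_mul_of_not h1 h2
  have : w ≠ 0 := fun e => h2 (by simp [e])
  exact ⟨u / w, by field_simp; linear_combination e⟩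

theorem J3.eq [Finite F] {h : MC a p α j} (k : J3 a p n ν₁ ν₂ ν₃) (l : J3 a p n' κ₁ κ₂ κ₃)
    (m : ¬ IsSquare (-1 : F)) (a1 : ¬ IsSquare ν₁ ∧ ¬ IsSquare ν₂ ∧ ¬ IsSquare ν₃)
    (a2 : ¬ IsSquare κ₁ ∧ ¬ IsSquare κ₂ ∧ ¬ IsSquare κ₃) (q : h.Sp s) (o : J3 a p (h.μ s) t₁ t₂ t₃)
    (e : (n * n') • p s = p s) : n = n' := by
  have one : ∀ {u : F}, IsSquare u → u * u = 1 → u = 1 := fun {u} a b =>
    (mul_self_eq_one_iff.1 b).resolve_right fun c => m (c ▸ a)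
  obtain ⟨e1, e2, e3⟩ := (k.mul h l).sq q o e
  exact mul_right_cancel (((k.mul h l).eq_one h (one (sq_div_of_not a1.1 a2.1) e1)
    (one (sq_div_of_not a1.2.1 a2.2.1) e2) (one (sq_div_of_not a1.2.2 a2.2.2) e3)).trans (l.sq h).symm)

end J

theorem MC3.psl [Finite F] {p : F × F × F → Ω} {α : F × F × F → G} {h : MC a p α j}
    (k : MC3 h x y g₂ g₃) (hμ : ∀ s, s ≠ 0 → h.μ (s, 0, 0) * h.μ (s, 0, 0) = 1)
    (lin : ∀ n : G, Sw2 a (p 0) n → n * n = 1 → n * x = x * n →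
      ∃ ν, ∀ w, w ≠ 0 → n • p (w, 0, 0) = p (ν / w, 0, 0)) : False := by
  have L : ∀ {g t : G} (e : F → F × F × F), Fx2 a (p 0) g → g * x * g⁻¹ = t →
      (∀ w, g • p (w, 0, 0) = p (e w)) → ∀ {n : G}, Sw2 a (p 0) n → n * n = 1 → n * t = t * n →
      ∃ ν, ν ≠ 0 ∧ ∀ w, w ≠ 0 → n • p (e w) = p (e (ν / w)) := fun {g t} e f c l n sw n2 cm => by
    have sw' := (f.inv.mul_sw sw).mul_fx f
    obtain ⟨ν, hν⟩ := lin _ sw' (by
      rw [show g⁻¹ * n * g * (g⁻¹ * n * g) = g⁻¹ * (n * n) * g by group, n2]; group) (by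
      rw [show x = g⁻¹ * t * g by rw [← c]; group]
      calc _ = g⁻¹ * (n * t) * g := by group
        _ = _ := by rw [cm]; group)
    refine ⟨ν, fun e' => k.ne_0 sw' (hν 1 one_ne_zero).symm (by simp [e']), fun w hw => ?_⟩
    rw [← l, ← l, ← hν w hw, mul_smul, mul_smul, smul_inv_smul]
  have L3 := @L _ _ (fun w => (0, 0, w)) k.f3 k.c3 k.a3
  have mkJ : ∀ {s}, h.Sp s → h.μ s * h.μ s = 1 → (x • p s = p s ∨ x • p s = p (-s)) →
      (y • p s = p s ∨ y • p s = p (-s)) → ∃ ν₁ ν₂ ν₃, J3 a p (h.μ s) ν₁ ν₂ ν₃ := fun {s} q s2 e1 e2 => by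
    have c1 := q.comm' s2 k.fx e1
    have c2 := q.comm' s2 k.fy e2
    obtain ⟨ν₁, a1, b1⟩ := L (fun w => (w, 0, 0)) ⟨one_smul G _, one_smul G _⟩ (by simp)
      (fun w => one_smul G _) q.sw s2 c1
    obtain ⟨ν₂, a2, b2⟩ := L (fun w => (0, w, 0)) k.f2 k.c2 k.a2 q.sw s2 c2
    obtain ⟨ν₃, a3, b3⟩ := L3 q.sw s2 (Commute.mul_right c1 c2)
    exact ⟨_, _, _, q.sw, ⟨a1, a2, a3⟩, fun w hw => ⟨b1 w hw, b2 w hw, b3 w hw⟩⟩
  have J1 : ∀ s, s ≠ 0 → ∃ κ κ', J3 a p (h.μ (s, 0, 0)) (-s ^ 2) κ κ' := fun s hs => by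
    obtain ⟨ν₁, ν₂, ν₃, l⟩ := mkJ (k.sp1 hs) (hμ s hs) (.inl (by simp [k.hx.2])) (.inr (by simp [k.hy.2]))
    obtain rfl : ν₁ = -s ^ 2 := by
      simpa using h.inj ((l.2.2 1 one_ne_zero).1.symm.trans (k.m11 hs one_ne_zero))
    exact ⟨_, _, l⟩
  have J2 : ∀ s, s ≠ 0 → ∃ κ κ', J3 a p (h.μ (0, s, 0)) κ (-s ^ 2) κ' := fun s hs => by
    obtain ⟨ν₁, ν₂, ν₃, l⟩ := mkJ (k.sp2 hs).1 (by rw [← (k.sp2 hs).2, conj_mul, hμ s hs]; simp)
      (.inr (by simp [k.hx.2])) (.inl (by simp [k.hy.2]))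
    obtain rfl : ν₂ = -s ^ 2 := by
      simpa using h.inj ((l.2.2 1 one_ne_zero).2.1.symm.trans (k.m22 hs one_ne_zero))
    exact ⟨_, _, l⟩
  have J3' : ∀ s, s ≠ 0 → ∃ κ κ', J3 a p (h.μ (0, 0, s)) κ κ' (-s ^ 2) := fun s hs => by
    obtain ⟨ν₁, ν₂, ν₃, l⟩ := mkJ (k.sp3 hs).1 (by rw [← (k.sp3 hs).2, conj_mul, hμ s hs]; simp)
      (.inr (by simp [k.hx.2])) (.inr (by simp [k.hy.2]))
    obtain rfl : ν₃ = -s ^ 2 := by
      simpa using h.inj ((l.2.2 1 one_ne_zero).2.2.symm.trans (k.m33 hs one_ne_zero))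
    exact ⟨_, _, l⟩
  choose! κ12 κ13 J1 using J1
  choose! κ21 κ23 J2 using J2
  choose! κ31 κ32 J3' using J3'
  have N1 : ∀ {b ν₁ ν₂ ν₃}, h.Sp b → J3 a p (h.μ b) ν₁ ν₂ ν₃ → b.1 = 0 → ¬ IsSquare (-ν₁) :=
    fun {b ν₁ ν₂ ν₃} q l e ⟨r, hr⟩ => by
      have r0 : r ≠ 0 := fun e' => l.2.1.1 (by simpa [e'] using hr)
      have d := (J1 r r0).mul h l
      rw [sq, ← hr, neg_neg, div_self l.2.1.1] at d
      exact (k.sp1 r0).not_fix q (hμ r r0) (l.sq h) (.fst F _) k.two r0 e (by simp [d.2])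
        fun ⟨_, _, _⟩ v' e' => by simp [← h.inj ((d.2 _ _ _).symm.trans e')]
  have N2 : ∀ {b ν₁ ν₂ ν₃}, h.Sp b → J3 a p (h.μ b) ν₁ ν₂ ν₃ → b.2.1 = 0 → ¬ IsSquare (-ν₂) :=
    fun {b ν₁ ν₂ ν₃} q l e ⟨r, hr⟩ => by
      have r0 : r ≠ 0 := fun e' => l.2.1.2.1 (by simpa [e'] using hr)
      have d := (J2 r r0).mul h l
      rw [sq, ← hr, neg_neg, div_self l.2.1.2.1] at d
      exact (k.sp2 r0).1.not_fix q ((J2 r r0).sq h) (l.sq h) ((AddMonoidHom.fst F F).comp (.snd F _))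
        k.two r0 e (by simp [d.2]) fun ⟨_, _, _⟩ v' e' => by simp [← h.inj ((d.2 _ _ _).symm.trans e')]
  have N3 : ∀ {b ν₁ ν₂ ν₃}, h.Sp b → J3 a p (h.μ b) ν₁ ν₂ ν₃ → b.2.2 = 0 → ¬ IsSquare (-ν₃) :=
    fun {b ν₁ ν₂ ν₃} q l e ⟨r, hr⟩ => by
      have r0 : r ≠ 0 := fun e' => l.2.1.2.2 (by simpa [e'] using hr)
      have d := (J3' r r0).mul h l
      rw [sq, ← hr, neg_neg, div_self l.2.1.2.2] at d
      exact (k.sp3 r0).1.not_fix q ((J3' r r0).sq h) (l.sq h) ((AddMonoidHom.snd F F).comp (.snd F _))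
        k.two r0 e (by simp [d.2]) fun ⟨_, _, _⟩ v' e' => by simp [← h.inj ((d.2 _ _ _).symm.trans e')]
  have n12 := fun s hs => N2 (k.sp1 hs) (J1 s hs) rfl
  have n13 := fun s hs => N3 (k.sp1 hs) (J1 s hs) rfl
  have n21 := fun s hs => N1 (k.sp2 hs).1 (J2 s hs) rfl
  have n23 := fun s hs => N3 (k.sp2 hs).1 (J2 s hs) rfl
  have n31 := fun s hs => N1 (k.sp3 hs).1 (J3' s hs) rfl
  have n32 := fun s hs => N2 (k.sp3 hs).1 (J3' s hs) rfl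
  have o := one_ne_zero (α := F)
  have m1 : ¬ IsSquare (-1 : F) := fun m => by
    obtain ⟨r, hr⟩ := sq_div_of_not (n21 1 o) (n31 1 o)
    rw [neg_div_neg_eq] at hr
    have r0 : r ≠ 0 := fun e => by simp [e, (J2 1 o).2.1.1, (J3' 1 o).2.1.1] at hr
    have d := ((J2 1 o).mul h (J3' 1 o)).mul ((J1 1 o).mul h (J1 r r0))
    have e := (d.sq (k.sp1 o) (J1 1 o) (by rw [d.2, hr]; congr 2 <;> simp; field_simp)).2.1
    have e2 := sq_div_of_not (n12 1 o) (n12 r r0)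
    rw [neg_div_neg_eq] at e2
    have := (J3' 1 o).2.1.2.1
    refine n32 1 o ?_
    generalize κ12 1 / κ12 r = ρ at e e2
    rcases mul_self_eq_one_iff.1 e with e | e
    · rwa [show -κ32 1 = ρ by field_simp at e; linear_combination e]
    · rw [show -κ32 1 = -1 * ρ by field_simp at e; linear_combination -e]; exact m.mul e2
  have nsq : ∀ {s : F}, s ≠ 0 → ¬ IsSquare (1 * -s ^ 2) := fun {s} hs ⟨r, e⟩ =>
    m1 ⟨r / s, by field_simp; linear_combination e⟩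
  have W1 := fun s hs => k.hx.mulJ h (J1 s hs)
  have V1 : ∀ s, s ≠ 0 → ¬ IsSquare (1 * -s ^ 2) ∧ ¬ IsSquare (-1 * κ12 s) ∧ ¬ IsSquare (-1 * κ13 s) :=
    fun s hs => ⟨nsq hs, by simpa using n12 s hs, by simpa using n13 s hs⟩
  obtain ⟨u, v, hu, hv, uv⟩ := exists_sq_add_sq_not_sq k.two
  obtain ⟨b, hb⟩ := sq_div_of_not (n12 v hv) m1
  rw [neg_div_neg_eq, div_one] at hb
  have b0 : b ≠ 0 := fun e => (J1 v hv).2.1.2.1 (by simp [hb, e])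
  have e12 : x * h.μ (v, 0, 0) = y * h.μ (0, b, 0) := by
    have W2 := k.hy.mulJ h (J2 b b0)
    exact (W1 v hv).eq W2 m1 (V1 v hv) ⟨by simpa using n21 b b0, nsq b0, by simpa using n23 b b0⟩
      (k.sp2 b0).1 (J2 b b0) (by rw [((W1 v hv).mul h W2).2, hb]; simp [sq, b0])
  have y0 : ((u, b, 0) : F × F × F) ≠ 0 := by simp [hu]
  obtain ⟨⟨z1, z2, z3⟩, hz⟩ := h.surj _ (k.ne_a (W1 u hu).1 y0)
  have sm : ∀ {n n' : G} {c : Ω}, n' * n' = 1 → n • c = (n * n') • n' • c := fun {n n' c} e => by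
    rw [← mul_smul, mul_assoc, e, mul_one]
  have d := (W1 v hv).mul h (W1 u hu)
  have qa := k.sp1 hu
  have qb := (k.sp2 b0).1
  have ia := inv_eq_of_mul_eq_one_right (hμ u hu)
  have ib := inv_eq_of_mul_eq_one_right ((J2 b b0).sq h)
  have xx : ∀ {t n : G}, t * t = 1 → n = t * (t * n) := fun e => by rw [← mul_assoc, e, one_mul]
  have a1 : h.D (u, 0, 0) • p (0, b, 0) = p (z1 + u, -z2, -z3) := by
    rw [qa.D_smul, ia, xx (n := h.μ _) k.x2, mul_smul]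
    simp [← hz, k.hx.2, h.αp]
  have a2 := h.D_symm qa.1 qb.1
  rw [a1, qb.D_smul, ib, xx (n := h.μ _) k.y2, ← e12, mul_smul,
    sm (n := x * h.μ (v, 0, 0)) ((W1 u hu).sq h)] at a2
  simp only [Prod.mk_add_mk, add_zero, zero_add, ← hz, d.2, k.hy.2, h.αp] at a2
  obtain ⟨b2, -, a3⟩ : _ ∧ _ ∧ _ := by simpa only [Prod.mk.injEq] using h.inj a2
  obtain rfl : z3 = 0 := by
    by_contra l
    have e := (W1 v hv).eq (W1 u hu) m1 (V1 v hv) (V1 u hu) (k.sp3 o).1 (J3' 1 o) (by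
      rw [d.2, mul_right_cancel₀ l (show -1 * κ13 v / (-1 * κ13 u) * z3 = 1 * z3 by
        linear_combination a3)]; simp)
    have e1 := qa.rel (p (0, b, 0))
    have e2 := h.D_conj_smul qa.1 k.fy (s' := -(u, 0, 0)) (by simp [k.hy.2]) (p (0, b, 0))
    rw [xx (n := h.μ _) k.x2, ← e, e12, mul_smul, mul_smul, qb.self] at e1
    simp only [k.hy.2, k.hx.2, Prod.neg_mk, neg_zero, mul_zero, one_mul, neg_mul, neg_neg, a1] at e1 e2
    rw [e2, h.αp] at e1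
    exact l (k.half0 (by simpa using congrArg (·.2.2) (h.inj e1)))
  have cz := (W1 u hu).comm h k.hz k.z2
  have ny : (x * y) • p (u, b, 0) = p (-(u, b, 0)) := by simp [k.hz.2]
  have qz : h.Sp (z1, z2, 0) := ⟨k.ne_0 (W1 u hu).1 hz, by
    have := h.sw_add (W1 u hu).1 hz.symm (-(u, b, 0))
    rw [neg_add_cancel, (W1 u hu).1.2, ← ny, ← mul_smul _ (x * y), cz, mul_smul (x * y), ← hz,
      k.hz.2] at this
    simpa using this.symm⟩
  have qy := (qz.sw_conj (W1 u hu).1 (s' := (u, b, 0)) (by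
    rw [hz, ← mul_smul, (W1 u hu).sq h, one_smul])).1
  have := Fintype.ofFinite F
  have hc : ringChar F ≠ 2 := fun e => k.two (by simpa using (ringChar.spec F 2).2 (e ▸ dvd_rfl))
  have p1 : ∀ {r w : F}, ¬ IsSquare r → ¬ IsSquare w → (r / w) ^ (Fintype.card F / 2) = 1 :=
    fun {r w} e e' => (FiniteField.isSquare_iff hc (div_ne_zero (fun l => e (by simp [l]))
      fun l => e' (by simp [l]))).1 (sq_div_of_not e e')
  have p2 : (-1 : F) ^ (Fintype.card F / 2) = -1 := (FiniteField.pow_dichotomy hc (by simp)).resolve_left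
    fun e => m1 ((FiniteField.isSquare_iff hc (by simp)).2 e)
  have T : (x * y * (x * h.μ (v, 0, 0) * (x * h.μ (u, 0, 0)))) ^ (Fintype.card F / 2) = x * y := by
    have := ((k.hz.mul d).pow (Fintype.card F / 2)).mul k.hz
    simp only [mul_pow, p2, p1 (V1 v hv).1 (V1 u hu).1, p1 (V1 v hv).2.1 (V1 u hu).2.1,
      p1 (V1 v hv).2.2 (V1 u hu).2.2] at this
    exact mul_right_cancel ((this.eq_one h (by simp) (by simp) (by simp)).trans k.z2.symm)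
  rw [e12, show x * y * (y * h.μ (0, b, 0) * (x * h.μ (u, 0, 0))) =
    x * (y * y) * (h.μ (0, b, 0) * x) * h.μ (u, 0, 0) by group, (J2 b b0).comm h k.hx k.x2, k.y2, mul_one,
    ← mul_assoc x, k.x2, one_mul] at T
  have two := qa.two qb (by simpa using qy)
  simp only [ia, ib, Prod.mk_add_mk, add_zero, zero_add] at two
  have cy : h.μ (u, b, 0) * (x * y) = x * y * h.μ (u, b, 0) := by
    have : SemiconjBy (h.μ (u, b, 0)) (h.μ (0, b, 0) * h.μ (u, 0, 0))⁻¹ (h.μ (0, b, 0) * h.μ (u, 0, 0)) := by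
      rw [mul_inv_rev, ia, ib, SemiconjBy, xx (n := _ * (_ * _)) ((J2 b b0).sq h), ← mul_assoc (h.μ (0, b, 0))
        (h.μ (u, b, 0)), ← mul_assoc (_ * h.μ (u, b, 0)), ← two, mul_assoc (_ * _), (J2 b b0).sq h, mul_one,
        mul_assoc]
    have := this.pow_right (Fintype.card F / 2)
    rwa [inv_pow, T, inv_eq_of_mul_eq_one_right k.z2] at this
  have y2 : h.μ (u, b, 0) * h.μ (u, b, 0) = 1 := by
    rw [← eq_inv_iff_mul_eq_one, ← qy.conj_neg k.hz.fx ny, ← cy, mul_inv_cancel_right]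
  obtain ⟨ν, ν0, hν⟩ := L3 qy.sw y2 cy
  obtain ⟨e, e0, he⟩ : ∃ e : F, e ≠ 0 ∧ (ν / -e = e ∨ ν / -e = -e) := by
    by_cases l : IsSquare ν
    · obtain ⟨e, rfl⟩ := l
      have : e ≠ 0 := left_ne_zero_of_mul ν0
      exact ⟨e, this, .inr (by field_simp)⟩
    · obtain ⟨e, l⟩ := sq_div_of_not l m1
      obtain rfl : ν = -(e * e) := by rw [← l]; field_simp
      have : e ≠ 0 := left_ne_zero_of_mul (neg_ne_zero.1 ν0)
      exact ⟨e, this, .inl (by field_simp)⟩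
  have qe := (k.sp3 e0).1
  have e2 := (J3' e e0).sq h
  have f := qy.sw.mul qe.sw
  have se : (h.μ (u, b, 0) * h.μ (0, 0, e)) • p (0, 0, e) = p (0, 0, ν / -e) := by
    rw [mul_smul, qe.self, ← hν _ (neg_ne_zero.2 e0)]; simp
  have s2 := qe.comm' e2 f (by rcases he with l | l <;> simp [se, l])
  have s3 := qy.inverts qe (by simp [hu]) f (by
    rw [mul_assoc, s2, mul_assoc (h.μ _) (h.μ _), e2, mul_one, y2]) (by rw [mul_inv_cancel_right, inv_eq_iff_mul_eq_one, y2])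
  obtain ⟨⟨c1, c2, c3⟩, s4⟩ := h.ex f.1 (u, b, 0)
  have s5 := h.neg f s4
  rw [← ny, ← mul_smul, (Commute.mul_left cy ((J3' e e0).comm h k.hz k.z2)).eq, mul_smul (x * y), s4,
    k.hz.2] at s5
  obtain rfl : c3 = 0 := k.half0 (by simpa [eq_comm] using congrArg (·.2.2) (h.inj s5))
  rw [sub_eq_add_neg, h.add f s4 (h.neg f se)] at s3
  obtain ⟨s6, s7, -⟩ : _ ∧ _ ∧ _ := by
    simpa only [Prod.neg_mk, Prod.mk_add_mk, Prod.mk_sub_mk, Prod.mk.injEq, neg_zero, add_zero, zero_sub]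
      using h.inj s3
  rw [s6, s7, mul_smul, show p (-u, -b, 0) = p (-(u, b, 0)) by simp, ← qy.self, smul_left_cancel_iff]
    at s4
  obtain ⟨r, hr⟩ := sq_div_of_not (n31 e e0) m1
  rw [neg_div_neg_eq, div_one] at hr
  have r0 : r ≠ 0 := fun l => (J3' e e0).2.1.1 (by simp [hr, l])
  have W3 := k.hz.mulJ h (J3' e e0)
  have e13 := W3.eq (W1 r r0) m1 ⟨by simpa using n31 e e0, by simpa using n32 e e0, nsq e0⟩ (V1 r r0)
    (k.sp1 r0) (J1 r r0) (by rw [(W3.mul h (W1 r r0)).2, hr]; simp [sq, r0])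
  rw [xx (n := h.μ _) k.z2, e13, mul_smul, sm (n := x * h.μ (r, 0, 0)) ((W1 u hu).sq h), ← hz,
    ((W1 r r0).mul h (W1 u hu)).2, k.hz.2] at s4
  have s8 := (Prod.mk.inj (h.inj s4)).1
  have z0 : z1 ≠ 0 := fun l => hu (by simpa [l] using b2)
  field_simp at s8 b2
  exact uv ⟨r, mul_left_cancel₀ z0 (by linear_combination b2 + s8)⟩

theorem CV.psl [Finite F] {p : A → Ω} {α : A → G} {h : MC a p α j} {e : F →+ A} (k : CV h x y e)
    (f2 : Fx2 a (p 0) g₂) (f3 : Fx2 a (p 0) g₃) (c2 : g₂ * x * g₂⁻¹ = y) (c3 : g₃ * x * g₃⁻¹ = x * y)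
    (hμ : ∀ s, s ≠ 0 → h.μ (e s) * h.μ (e s) = 1) (lin : ∀ n : G, Sw2 a (p 0) n → n * n = 1 →
      n * x = x * n → ∃ ν, ∀ w, w ≠ 0 → n • p (e w) = p (e (ν / w))) : False := by
  obtain ⟨E, hE, E1, k'⟩ := k.coord f2 f3 c2 c3
  refine k'.psl (fun s hs => by rw [(h.comp_μ hE (E1 s ▸ k.sp hs)).2, E1, hμ s hs]) fun n l => ?_
  simpa only [Function.comp, E1] using lin n (by simpa using l)

end Cfsg.Lib.HKS
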