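import Mathlib

/-!
Moufang sets with abelian root groups: special elements and their `μ`-maps.
-/

set_option autoImplicit false

namespace Cfsg.Lib.HKS

variable {G Ω A : Type*} [Group G] [MulAction G Ω] [AddCommGroup A] {a : Ω} {p : A → Ω} {α : A → G}
  {j g n n' δ δ' : G} {s s' t t' y y' c : A}

/-- The translations `α s` form a normal subgroup of the stabilizer of `a` regular on the other
points `p y`, and `j` interchanges `a` and `p 0`. -/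
structure MC (a : Ω) (p : A → Ω) (α : A → G) (j : G) : Prop where
  faith : ∀ g : G, (∀ c : Ω, g • c = c) → g = 1
  inj : Function.Injective p
  ne : ∀ y, p y ≠ a
  surj : ∀ c, c ≠ a → ∃ y, p y = c
  αa : ∀ s, α s • a = a
  αp : ∀ s y, α s • p y = p (y + s)
  nrm : ∀ g : G, g • a = a → ∀ s, ∃ s', g * α s * g⁻¹ = α s'
  j1 : j • a = p 0
  j2 : j • p 0 = a

/-- `g` fixes both base points. -/
def Fx2 (a b : Ω) (g : G) : Prop := g • a = a ∧ g • b = b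

/-- `n` interchanges the base points. -/
def Sw2 (a b : Ω) (n : G) : Prop := n • a = b ∧ n • b = a

theorem Fx2.mul {b : Ω} (h : Fx2 a b g) (k : Fx2 a b n) : Fx2 a b (g * n) :=
  ⟨by rw [mul_smul, k.1, h.1], by rw [mul_smul, k.2, h.2]⟩

theorem Fx2.inv {b : Ω} (h : Fx2 a b g) : Fx2 a b g⁻¹ :=
  ⟨inv_smul_eq_iff.2 h.1.symm, inv_smul_eq_iff.2 h.2.symm⟩

theorem Sw2.mul {b : Ω} (h : Sw2 a b n) (k : Sw2 a b n') : Fx2 a b (n * n') :=
  ⟨by rw [mul_smul, k.1, h.2], by rw [mul_smul, k.2, h.1]⟩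

theorem Sw2.inv {b : Ω} (h : Sw2 a b n) : Sw2 a b n⁻¹ :=
  ⟨inv_smul_eq_iff.2 h.2.symm, inv_smul_eq_iff.2 h.1.symm⟩

theorem Sw2.mul_fx {b : Ω} (h : Sw2 a b n) (k : Fx2 a b g) : Sw2 a b (n * g) :=
  ⟨by rw [mul_smul, k.1, h.1], by rw [mul_smul, k.2, h.2]⟩

theorem Fx2.mul_sw {b : Ω} (k : Fx2 a b g) (h : Sw2 a b n) : Sw2 a b (g * n) :=
  ⟨by rw [mul_smul, h.1, k.2], by rw [mul_smul, h.2, k.1]⟩

namespace MC

variable (h : MC a p α j)
include h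

theorem ext (h1 : g • a = n • a) (h2 : ∀ y, g • p y = n • p y) : g = n :=
  (inv_mul_eq_one.1 (h.faith _ fun c => by
    rw [mul_smul, inv_smul_eq_iff]
    by_cases e : c = a
    · rw [e, h1]
    · obtain ⟨y, rfl⟩ := h.surj c e
      exact h2 y)).symm

theorem α_add (s t : A) : α (s + t) = α s * α t :=
  h.ext (by rw [mul_smul, h.αa, h.αa, h.αa]) fun y => by
    rw [mul_smul, h.αp, h.αp, h.αp, add_right_comm, add_assoc]

theorem α_zero : α 0 = 1 := h.ext (by rw [h.αa, one_smul]) fun y => by rw [h.αp, add_zero, one_smul]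

theorem α_neg (s : A) : α (-s) = (α s)⁻¹ :=
  eq_inv_of_mul_eq_one_left (by rw [← h.α_add, neg_add_cancel, h.α_zero])

theorem α0 (s : A) : α s • p 0 = p s := by rw [h.αp, zero_add]

theorem conj_α (k : Fx2 a (p 0) g) (e : g • p s = p s') : g * α s * g⁻¹ = α s' := by
  obtain ⟨t, ht⟩ := h.nrm g k.1 s
  have := congrArg (· • p 0) ht
  simp only [mul_smul, k.inv.2, h.α0, e] at this
  rw [ht, h.inj this]

theorem add (k : Fx2 a (p 0) g) (e : g • p y = p y') (e' : g • p s = p s') :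
    g • p (y + s) = p (y' + s') := by
  rw [← h.αp, ← h.αp, ← h.conj_α k e', mul_smul, mul_smul, ← e, inv_smul_smul]

theorem neg (k : Fx2 a (p 0) g) (e : g • p s = p s') : g • p (-s) = p (-s') := by
  rw [← h.α0, ← h.α0 (-s'), h.α_neg, h.α_neg, ← h.conj_α k e, conj_inv, mul_smul, mul_smul, k.inv.2]

theorem ex (k : g • a = a) (y : A) : ∃ y', g • p y = p y' :=
  (h.surj _ fun e => h.ne y (MulAction.injective g (e.trans k.symm))).imp fun _ => Eq.symm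

/-- The root group at `p 0`. -/
def Wb (_ : MC a p α j) (δ : G) : Prop := ∃ s, δ = j * α s * j⁻¹

theorem ja : j⁻¹ • a = p 0 := inv_smul_eq_iff.2 h.j2.symm

theorem jb : j⁻¹ • p 0 = a := inv_smul_eq_iff.2 h.j1.symm

theorem wb0 (k : h.Wb δ) : δ • p 0 = p 0 := by
  obtain ⟨s, rfl⟩ := k
  rw [mul_smul, mul_smul, h.jb, h.αa, h.j1]

theorem wb_eq (k : h.Wb δ) (k' : h.Wb δ') (e : δ • a = δ' • a) : δ = δ' := by
  obtain ⟨s, rfl⟩ := k
  obtain ⟨t, rfl⟩ := k'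
  simp only [mul_smul, h.ja, h.α0] at e
  rw [h.inj (MulAction.injective j e)]

theorem wb_mul (k : h.Wb δ) (k' : h.Wb δ') : h.Wb (δ * δ') := by
  obtain ⟨s, rfl⟩ := k
  obtain ⟨t, rfl⟩ := k'
  exact ⟨s + t, by rw [h.α_add]; group⟩

theorem wb_inv (k : h.Wb δ) : h.Wb δ⁻¹ := by
  obtain ⟨s, rfl⟩ := k
  exact ⟨-s, by rw [h.α_neg]; group⟩

theorem wb_comm (k : h.Wb δ) (k' : h.Wb δ') : δ * δ' = δ' * δ := by
  obtain ⟨s, rfl⟩ := k
  obtain ⟨t, rfl⟩ := k'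
  rw [conj_mul, conj_mul, ← h.α_add, ← h.α_add, add_comm]

theorem wb_sw (k : n • a = p 0) (s : A) : h.Wb (n * α s * n⁻¹) := by
  obtain ⟨t, ht⟩ := h.nrm (j⁻¹ * n) (by rw [mul_smul, k, h.jb]) s
  exact ⟨t, by rw [← ht]; group⟩

theorem wb_conj (k : g • p 0 = p 0) (k' : h.Wb δ) : h.Wb (g * δ * g⁻¹) := by
  obtain ⟨s, rfl⟩ := k'
  have := h.wb_sw (n := g * j) (by rw [mul_smul, h.j1, k]) s
  rwa [show g * j * α s * (g * j)⁻¹ = g * (j * α s * j⁻¹) * g⁻¹ by group] at this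

/-- The element of the root group at `p 0` mapping `a` to `p s`. -/
noncomputable def D (s : A) : G := Classical.epsilon fun δ => h.Wb δ ∧ δ • a = p s

theorem D_spec (hs : s ≠ 0) : h.Wb (h.D s) ∧ h.D s • a = p s := by
  refine Classical.epsilon_spec (p := fun δ => h.Wb δ ∧ δ • a = p s) ?_
  obtain ⟨y, e⟩ := h.surj (j⁻¹ • p s) fun e => hs (h.inj (MulAction.injective j⁻¹ (e.trans h.jb.symm)))
  exact ⟨_, ⟨y, rfl⟩, by rw [mul_smul, mul_smul, h.ja, h.α0, e, smul_inv_smul]⟩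

theorem D_eq (k : h.Wb δ) (e : δ • a = p s) : s ≠ 0 ∧ δ = h.D s := by
  have hs : s ≠ 0 := fun e' => h.ne 0 (smul_left_cancel δ (by rw [e, e', h.wb0 k]))
  exact ⟨hs, h.wb_eq k (h.D_spec hs).1 (e.trans (h.D_spec hs).2.symm)⟩

theorem conj_D (hs : s ≠ 0) (k : Fx2 a (p 0) g) (e : g • p s = p s') : g * h.D s * g⁻¹ = h.D s' :=
  (h.D_eq (h.wb_conj k.2 (h.D_spec hs).1) (by rw [mul_smul, mul_smul, k.inv.1, (h.D_spec hs).2, e])).2

theorem sw_α (k : Sw2 a (p 0) n) (e : n • p s = p s') : n * α s * n⁻¹ = h.D s' :=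
  (h.D_eq (h.wb_sw k.1 s) (by rw [mul_smul, mul_smul, k.inv.1, h.α0, e])).2

theorem sw_D (k : Sw2 a (p 0) n) (e : n • p s = p s') : n * h.D s * n⁻¹ = α s' := by
  rw [← h.sw_α k.inv (inv_smul_eq_iff.2 e.symm)]; group

theorem sw_add (k : Sw2 a (p 0) n) (e : n • p s = p s') (y : A) :
    n • p (y + s) = h.D s' • n • p y := by
  rw [← h.sw_α k e, mul_smul, mul_smul, inv_smul_smul, h.αp]

theorem D_symm (hs : s ≠ 0) (ht : t ≠ 0) : h.D s • p t = h.D t • p s := by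
  rw [← (h.D_spec hs).2, ← (h.D_spec ht).2, ← mul_smul, ← mul_smul,
    h.wb_comm (h.D_spec hs).1 (h.D_spec ht).1]

theorem D_comm (hs : s ≠ 0) (ht : t ≠ 0) (c : Ω) : h.D s • h.D t • c = h.D t • h.D s • c := by
  rw [← mul_smul, ← mul_smul, h.wb_comm (h.D_spec hs).1 (h.D_spec ht).1]

theorem D_conj_smul (hs : s ≠ 0) (k : Fx2 a (p 0) g) (e : g • p s = p s') (c : Ω) :
    h.D s' • g • c = g • h.D s • c := by
  rw [← h.conj_D hs k e, mul_smul, mul_smul, inv_smul_smul]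

/-- Special elements. -/
def Sp (s : A) : Prop := s ≠ 0 ∧ h.D s • p (-s) = a

/-- The `μ`-map of a special element. -/
noncomputable def μ (s : A) : G := α s * (h.D s)⁻¹ * α s

theorem bruhat (k : Sw2 a (p 0) n) (k' : Sw2 a (p 0) n') (e : α s * n * α t = α s' * n' * α t') :
    n = n' := by
  have e1 := congrArg (· • a) e
  simp only [mul_smul, h.αa, k.1, k'.1, h.α0] at e1
  rw [h.inj e1, mul_assoc, mul_assoc, mul_right_inj] at e
  have e2 := congrArg (· • p (-t)) e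
  simp only [mul_smul, h.αp, neg_add_cancel, k.2] at e2
  rw [neg_add_eq_zero.1 (h.inj (MulAction.injective n' (e2.symm.trans k'.2.symm)))] at e
  exact mul_right_cancel e

variable {h}

theorem Sp.D_neg (k : h.Sp s) : h.D (-s) = (h.D s)⁻¹ :=
  (h.D_eq (h.wb_inv (h.D_spec k.1).1) (inv_smul_eq_iff.2 k.2.symm)).2.symm

theorem Sp.neg (k : h.Sp s) : h.Sp (-s) :=
  ⟨neg_ne_zero.2 k.1, by rw [k.D_neg, neg_neg, inv_smul_eq_iff, (h.D_spec k.1).2]⟩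

theorem Sp.sw (k : h.Sp s) : Sw2 a (p 0) (h.μ s) :=
  ⟨by rw [μ, mul_smul, mul_smul, h.αa, inv_smul_eq_iff.2 k.2.symm, h.αp, neg_add_cancel],
    by rw [μ, mul_smul, mul_smul, h.α0, inv_smul_eq_iff.2 (h.D_spec k.1).2.symm, h.αa]⟩

theorem Sp.μ_neg (k : h.Sp s) : h.μ (-s) = (h.μ s)⁻¹ := by
  rw [μ, μ, k.D_neg, h.α_neg]; group

theorem Sp.neg_self (k : h.Sp s) : h.μ s • p (-s) = p s := by
  rw [μ, mul_smul, mul_smul, h.αp, neg_add_cancel, h.wb0 (h.wb_inv (h.D_spec k.1).1), h.α0]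

theorem Sp.braid (k : h.Sp s) : h.D s * h.μ s = α s * (h.D s)⁻¹ := by
  have := h.sw_α k.sw k.neg_self
  rw [h.α_neg, mul_inv_eq_iff_eq_mul] at this
  rw [← this, μ, mul_inv_cancel_right]

theorem Sp.self (k : h.Sp s) : h.μ s • p s = p (-s) := by
  rw [← inv_mul_cancel_left (h.D s) (h.μ s), k.braid, mul_smul, mul_smul,
    inv_smul_eq_iff.2 (h.D_spec k.1).2.symm, h.αa, inv_smul_eq_iff, k.2]

theorem Sp.D_eq (k : h.Sp s) : h.D s = α s * (h.μ s)⁻¹ * α s := by rw [μ]; group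

theorem Sp.D_smul (k : h.Sp s) (y : A) : h.D s • p y = α s • (h.μ s)⁻¹ • p (y + s) := by
  rw [k.D_eq, mul_smul, mul_smul, h.αp]

theorem Sp.rel (k : h.Sp s) (c : Ω) : h.D s • h.μ s • c = α s • h.D (-s) • c := by
  rw [← mul_smul, k.braid, k.D_neg, mul_smul]

theorem Sp.conj (k : h.Sp s) (l : Fx2 a (p 0) g) (e : g • p s = p s') :
    h.Sp s' ∧ g * h.μ s * g⁻¹ = h.μ s' := by
  refine ⟨⟨fun e' => k.1 (h.inj (smul_left_cancel g (by rw [e, e', l.2]))), ?_⟩, ?_⟩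
  · rw [← h.neg l e, h.D_conj_smul k.1 l e, k.2, l.1]
  · rw [μ, μ, ← h.conj_D k.1 l e, ← h.conj_α l e]; group

theorem Sp.comm (k : h.Sp s) (l : Fx2 a (p 0) g) (e : g • p s = p s) : g * h.μ s = h.μ s * g :=
  mul_inv_eq_iff_eq_mul.1 (k.conj l e).2

theorem Sp.conj_neg (k : h.Sp s) (l : Fx2 a (p 0) g) (e : g • p s = p (-s)) :
    g * h.μ s * g⁻¹ = (h.μ s)⁻¹ := (k.conj l e).2.trans k.μ_neg

theorem Sp.sw_neg (k : h.Sp s) (l : Sw2 a (p 0) n) (e : n • p s = p s') : n • p (-s) = p (-s') := by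
  have := congrArg (· • n • p (-s)) (h.sw_D l e)
  simp only [mul_smul, inv_smul_smul, k.2, l.1] at this
  rw [← h.α0 (-s'), h.α_neg, eq_inv_smul_iff, this]

theorem Sp.sw_conj (k : h.Sp s) (l : Sw2 a (p 0) n) (e : n • p s = p s') :
    h.Sp s' ∧ n * h.μ s * n⁻¹ = (h.μ s')⁻¹ := by
  have k' : h.Sp s' := ⟨fun e' => h.ne s (smul_left_cancel n (by rw [e, e', l.1])), by
    rw [← k.sw_neg l e, ← h.sw_add l e, neg_add_cancel, l.2]⟩
  refine ⟨k', ?_⟩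
  rw [← inv_mul_cancel_left (h.D s') (h.μ s'), k'.braid, μ, ← h.sw_D l e, ← h.sw_α l e]; group

theorem Sp.core (k : h.Sp s) (l : h.Sp t) (m : h.Sp (s + t)) : ∃ u v,
    h.D s * h.D t = α u * ((h.μ s)⁻¹ * h.μ (s + t) * (h.μ t)⁻¹) * α v := by
  have ex : ∀ {n}, Sw2 a (p 0) n → ∃ u, n * h.D (s + t) * n⁻¹ = α u := fun {n} w => by
    obtain ⟨u, e⟩ := h.surj (n • p (s + t)) fun e => m.1 (h.inj (MulAction.injective n (e.trans w.2.symm)))
    exact ⟨u, h.sw_D w e.symm⟩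
  obtain ⟨u, e1⟩ := ex k.sw.inv
  obtain ⟨v, e2⟩ := ex l.sw
  refine ⟨s + u, v + t, ?_⟩
  have e3 : α s * α t = h.D (s + t) * h.μ (s + t) * h.D (s + t) := by
    rw [m.braid, inv_mul_cancel_right, h.α_add]
  rw [h.α_add, h.α_add, ← e1, ← e2, k.D_eq, l.D_eq]
  calc _ = α s * (h.μ s)⁻¹ * (α s * α t) * (h.μ t)⁻¹ * α t := by group
    _ = _ := by rw [e3]; group

theorem Sp.triple (k : h.Sp s) (l : h.Sp t) (m : h.Sp (s + t)) (r : h.Sp c) (e : h.D s • p t = p c) :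
    (h.μ c)⁻¹ = (h.μ s)⁻¹ * h.μ (s + t) * (h.μ t)⁻¹ := by
  obtain ⟨u, v, e1⟩ := k.core l m
  rw [(h.D_eq (h.wb_mul (h.D_spec k.1).1 (h.D_spec l.1).1) (by rw [mul_smul, (h.D_spec l.1).2, e])).2,
    r.D_eq] at e1
  exact h.bruhat r.sw.inv ((k.sw.inv.mul m.sw).mul_sw l.sw.inv) e1

theorem Sp.two (k : h.Sp s) (l : h.Sp t) (m : h.Sp (s + t)) :
    (h.μ s)⁻¹ * h.μ (s + t) * (h.μ t)⁻¹ = (h.μ t)⁻¹ * h.μ (s + t) * (h.μ s)⁻¹ := by
  obtain ⟨u, v, e1⟩ := k.core l m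
  obtain ⟨u', v', e2⟩ := l.core k (add_comm s t ▸ m)
  rw [h.wb_comm (h.D_spec l.1).1 (h.D_spec k.1).1, e1, add_comm t] at e2
  exact h.bruhat ((k.sw.inv.mul m.sw).mul_sw l.sw.inv) ((l.sw.inv.mul m.sw).mul_sw k.sw.inv) e2

/-- If `μ s⁻¹ = v μ t⁻¹` with `v` an involution fixing the base points then `v` inverts `s - t`. -/
theorem Sp.inverts {v : G} (k : h.Sp s) (l : h.Sp t) (hst : s + t ≠ 0) (w : Fx2 a (p 0) v)
    (v2 : v * v = 1) (e : (h.μ s)⁻¹ = v * (h.μ t)⁻¹) : v • p (s - t) = p (t - s) := by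
  obtain ⟨z, hz⟩ := h.surj ((h.μ t)⁻¹ • p (s + t)) fun e' =>
    hst (h.inj (MulAction.injective _ (e'.trans l.sw.inv.2.symm)))
  obtain ⟨z', hz'⟩ := h.ex w.1 z
  have e1 := h.D_symm k.1 l.1
  rw [k.D_smul, l.D_smul, e, mul_smul, add_comm t, ← hz, hz', h.αp, h.αp] at e1
  have e2 : v • p z' = p z := by rw [← hz', ← mul_smul, v2, one_smul]
  have := h.add w hz' (h.neg w e2)
  rwa [show z + -z' = s - t by rw [← sub_eq_zero, ← sub_eq_zero.2 (h.inj e1).symm]; abel,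
    show z' + -z = t - s by rw [← sub_eq_zero, ← sub_eq_zero.2 (h.inj e1)]; abel] at this

end MC

end Cfsg.Lib.HKS
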