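import Cfsg.Agent.Lib.HKS.M1

/-!
A Moufang set on `F³` with three coordinate lines of type `SL₂` does not exist.
-/

set_option autoImplicit false

namespace Cfsg.Lib.HKS

variable {G Ω F : Type*} [Group G] [MulAction G Ω] [Field F] {a : Ω} {p : F × F × F → Ω}
  {α : F × F × F → G} {j g t x y : G} {h : MC a p α j} {ω β r s u v w t₁ t₂ t₃ : F} {κ : F → F}

/-- `t` acts as a diagonal matrix. -/
def Dg (a : Ω) (p : F × F × F → Ω) (t : G) (t₁ t₂ t₃ : F) : Prop :=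
  t • a = a ∧ ∀ u v w, t • p (u, v, w) = p (t₁ * u, t₂ * v, t₃ * w)

theorem Dg.fx (k : Dg a p t t₁ t₂ t₃) : Fx2 a (p 0) t := ⟨k.1, by simpa [Prod.mk_zero_zero] using k.2 0 0 0⟩

theorem Dg.mul {r₁ r₂ r₃ : F} (k : Dg a p t t₁ t₂ t₃) (l : Dg a p g r₁ r₂ r₃) :
    Dg a p (t * g) (t₁ * r₁) (t₂ * r₂) (t₃ * r₃) :=
  ⟨by rw [mul_smul, l.1, k.1], fun u v w => by rw [mul_smul, l.2, k.2]; simp only [mul_assoc]⟩

theorem MC.dg (h : MC a p α j) (k : Fx2 a (p 0) t) (k1 : ∀ u, t • p (u, 0, 0) = p (t₁ * u, 0, 0))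
    (k2 : ∀ v, t • p (0, v, 0) = p (0, t₂ * v, 0)) (k3 : ∀ w, t • p (0, 0, w) = p (0, 0, t₃ * w)) :
    Dg a p t t₁ t₂ t₃ :=
  ⟨k.1, fun u v w => by simpa using h.add k (h.add k (k1 u) (k2 v)) (k3 w)⟩

/-- The configuration of type `SL₂`. -/
structure SC (h : MC a p α j) (x y g : G) (ω β : F) (κ : F → F) : Prop where
  two : (2 : F) ≠ 0
  hx : Dg a p x 1 (-1) (-1)
  hy : Dg a p y (-1) 1 (-1)
  ga : g • a = a
  hg : ∀ u v w, g • p (u, v, w) = p (ω * v, w, u)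
  sp : ∀ s, s ≠ 0 → h.Sp (s, 0, 0)
  m1 : ∀ s, s ≠ 0 → ∀ w, w ≠ 0 → h.μ (s, 0, 0) • p (w, 0, 0) = p (-s ^ 2 / w, 0, 0)
  m2 : ∀ s, s ≠ 0 → ∀ w, w ≠ 0 → h.μ (s, 0, 0) • p (0, w, 0) = p (0, 0, κ s / w)
  m3 : ∀ s, s ≠ 0 → ∀ w, w ≠ 0 → h.μ (s, 0, 0) • p (0, 0, w) = p (0, -κ s / w, 0)
  ne : ∀ s, s ≠ 0 → κ s ≠ 0
  sur : ∀ r, r ≠ 0 → ∃ s, s ≠ 0 ∧ κ s = r
  e1 : ω * β ^ 2 = 1
  e2 : κ 1 = β ^ 2
  e3 : κ β = β ^ 4

namespace SC

variable (k : SC h x y g ω β κ)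
include k

theorem β0 : β ≠ 0 := fun e => by simpa [e] using k.e1

theorem ω0 : ω ≠ 0 := left_ne_zero_of_mul_eq_one k.e1

theorem gf : Fx2 a (p 0) g := ⟨k.ga, by simpa [Prod.mk_zero_zero] using k.hg 0 0 0⟩

theorem g1 (u : F) : g • p (u, 0, 0) = p (0, 0, u) := by simpa using k.hg u 0 0

theorem g3 (u : F) : g • p (0, 0, u) = p (0, u, 0) := by simpa using k.hg 0 0 u

theorem sp3 (hs : s ≠ 0) : h.Sp (0, 0, s) ∧ g * h.μ (s, 0, 0) * g⁻¹ = h.μ (0, 0, s) :=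
  (k.sp s hs).conj k.gf (k.g1 s)

theorem sp2 (hs : s ≠ 0) : h.Sp (0, s, 0) ∧ g * h.μ (0, 0, s) * g⁻¹ = h.μ (0, s, 0) :=
  (k.sp3 hs).1.conj k.gf (k.g3 s)

theorem m31 (hs : s ≠ 0) (hw : w ≠ 0) : h.μ (0, 0, s) • p (w, 0, 0) = p (0, ω * κ s / w, 0) := by
  have e : g • p (0, w / ω, 0) = p (w, 0, 0) := by rw [k.hg, mul_div_cancel₀ _ k.ω0]
  rw [← (k.sp3 hs).2, ← e, mul_smul, mul_smul, inv_smul_smul, k.m2 s hs _ (div_ne_zero hw k.ω0), k.g3,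
    div_div_eq_mul_div, mul_comm]

theorem m23 (hs : s ≠ 0) (hw : w ≠ 0) : h.μ (0, s, 0) • p (0, 0, w) = p (ω ^ 2 * κ s / w, 0, 0) := by
  rw [← (k.sp2 hs).2, ← k.g1, mul_smul, mul_smul, inv_smul_smul, k.m31 hs hw, k.hg]
  congr 2; ring

theorem eqv (l : Dg a p t t₁ t₂ t₃) (hs : s ≠ 0) (h1 : t₁ ≠ 0) (h2 : t₂ ≠ 0) :
    κ (t₁ * s) = κ s * (t₂ * t₃) := by
  have := congrArg (· • p (0, t₂ * 1, 0)) ((k.sp s hs).conj l.fx (s' := (t₁ * s, 0, 0))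
    (by simpa using l.2 s 0 0)).2
  have e : t • p (0, 1, 0) = p (0, t₂ * 1, 0) := by simpa using l.2 0 1 0
  simp only [mul_smul] at this
  rw [inv_smul_eq_iff.2 e.symm, k.m2 s hs 1 one_ne_zero, l.2, k.m2 _ (mul_ne_zero h1 hs) _ (by simpa)]
    at this
  have := (Prod.mk.inj (Prod.mk.inj (h.inj this)).2).2
  field_simp at this
  linear_combination -this

theorem rot (l : Dg a p t t₁ t₂ t₃) : Dg a p (g * t * g⁻¹) t₂ t₃ t₁ :=
  ⟨by rw [mul_smul, mul_smul, k.gf.inv.1, l.1, k.ga], fun u v w => by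
    have e : g • p (w, u / ω, v) = p (u, v, w) := by rw [k.hg, mul_div_cancel₀ _ k.ω0]
    rw [← e, mul_smul, mul_smul, inv_smul_smul, l.2, k.hg, mul_left_comm, mul_div_cancel₀ _ k.ω0]⟩

theorem tor (hs : s ≠ 0) : ∃ t : G, Dg a p t (s ^ 2) (κ s / β ^ 2) (κ s / β ^ 2) := by
  have f := (k.sp s hs).sw.mul (k.sp 1 one_ne_zero).sw.inv
  have b := k.β0
  refine ⟨_, h.dg f (fun u => ?_) (fun u => ?_) fun u => ?_⟩ <;> rcases eq_or_ne u 0 with rfl | hu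
  · simpa [Prod.mk_zero_zero] using f.2
  · have e := k.m1 1 one_ne_zero (-1 / u) (by simpa)
    rw [show -1 ^ 2 / (-1 / u) = u by field_simp] at e
    rw [mul_smul, inv_smul_eq_iff.2 e.symm, k.m1 s hs _ (by simpa)]
    congr 2; field_simp
  · simpa [Prod.mk_zero_zero] using f.2
  · have e := k.m3 1 one_ne_zero (-β ^ 2 / u) (by simp [b, hu])
    rw [show -κ 1 / (-β ^ 2 / u) = u by rw [k.e2]; field_simp] at e
    rw [mul_smul, inv_smul_eq_iff.2 e.symm, k.m3 s hs _ (by simp [b, hu])]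
    congr 3; field_simp
  · simpa [Prod.mk_zero_zero] using f.2
  · have e := k.m2 1 one_ne_zero (β ^ 2 / u) (by simp [b, hu])
    rw [show κ 1 / (β ^ 2 / u) = u by rw [k.e2]; field_simp] at e
    rw [mul_smul, inv_smul_eq_iff.2 e.symm, k.m2 s hs _ (by simp [b, hu])]
    congr 3; field_simp

theorem kk (hs : s ≠ 0) (hr : r ≠ 0) : κ (κ s / β ^ 2 * r) = κ r * (κ s / β ^ 2 * s ^ 2) := by
  obtain ⟨t, l⟩ := k.tor hs
  have := div_ne_zero (k.ne s hs) (pow_ne_zero 2 k.β0)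
  exact k.eqv (k.rot l) hr this this

theorem mul (hs : s ≠ 0) (hr : r ≠ 0) : κ (s * r) = κ s * κ r / β ^ 2 := by
  have b := k.β0
  obtain ⟨l, h1, h2⟩ := k.sur (s * β ^ 2) (by simp [hs, b])
  have e1 := k.kk h1 hr
  have e2 := k.kk h1 one_ne_zero
  rw [h2, mul_div_cancel_right₀ _ (pow_ne_zero 2 b)] at e1 e2
  rw [mul_one, k.e2] at e2
  rw [e1, e2]; field_simp

theorem inv (hs : s ≠ 0) : κ s⁻¹ = β ^ 4 / κ s := by
  have := k.mul hs (inv_ne_zero hs)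
  have b := k.β0
  have := k.ne s hs
  rw [mul_inv_cancel₀ hs, k.e2] at *
  field_simp at *
  linear_combination -this

theorem kap (hs : s ≠ 0) : κ (κ s) = β ^ 4 * κ s * s ^ 2 := by
  have b := k.β0
  have := k.kk hs (pow_ne_zero 2 b)
  rw [div_mul_cancel₀ _ (pow_ne_zero 2 b), sq β, k.mul b b, k.e3] at this
  rw [this]; field_simp

theorem scal (hr : r ≠ 0) (e : κ r = β ^ 2 * r ^ 2) : ∃ t : G, Dg a p t r r r := by
  have b := k.β0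
  obtain ⟨l, h1, h2⟩ := k.sur (r * β ^ 2) (by simp [hr, b])
  have e1 := k.kk h1 one_ne_zero
  obtain ⟨t, m⟩ := k.tor h1
  rw [h2, mul_div_cancel_right₀ _ (pow_ne_zero 2 b)] at e1 m
  rw [mul_one, k.e2, e] at e1
  have : l ^ 2 = r := mul_left_cancel₀ (mul_ne_zero (pow_ne_zero 2 b) hr) (by linear_combination -e1)
  exact ⟨t, this ▸ m⟩

theorem sum (hu : u ≠ 0) (hv : v ≠ 0) : ∃ c, c = β ^ 4 * (u * κ u) / (v * κ v) ∧ c ≠ 1 ∧
    κ c = β ^ 2 * c ^ 2 ∧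
    h.D (u, 0, 0) • p (0, v, 0) = p (u / (1 - c), -c * v / (1 - c), -(κ u / v) / (1 - c)) := by
  have b := k.β0
  have ku := k.ne u hu
  have kv := k.ne v hv
  have hω : ω = 1 / β ^ 2 := eq_div_of_mul_eq (pow_ne_zero 2 b) k.e1
  obtain ⟨c, hc⟩ : ∃ c, c = β ^ 4 * (u * κ u) / (v * κ v) := ⟨_, rfl⟩
  have c0 : c ≠ 0 := by simp [hc, *]
  have b2 : κ (β ^ 4) = β ^ 10 := by rw [← k.e3, k.kap b, k.e3]; ring
  have kc : κ c = β ^ 2 * c ^ 2 := by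
    rw [hc, div_eq_mul_inv, k.mul (by simp [*]) (by simp [*]), k.mul (by simp [*]) (by simp [*]),
      k.inv (by simp [*]), k.mul hu ku, k.mul hv kv, k.kap hu, k.kap hv, b2]
    field_simp
  obtain ⟨⟨u₁, u₂, u₃⟩, e⟩ := h.surj (h.D (u, 0, 0) • p (0, v, 0)) fun e =>
    hv ((Prod.mk.inj (Prod.mk.inj (h.inj (smul_left_cancel _ (e.trans (k.sp u hu).2.symm)))).2).1.trans
      neg_zero)
  have e0 : κ u / v ≠ 0 := div_ne_zero ku hv
  have e1 := (k.sp u hu).rel (p (0, v, 0))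
  rw [k.m2 u hu v hv, show p (0, v, 0) = y • p (0, v, 0) by simpa using (k.hy.2 0 v 0).symm,
    h.D_conj_smul (k.sp u hu).1 k.hy.fx (by simpa using k.hy.2 u 0 0), ← e, k.hy.2, h.αp,
    h.D_symm (k.sp u hu).1 (k.sp3 e0).1.1] at e1
  have e2 := (k.sp3 e0).1.rel (p (u, 0, 0))
  have b1 : ω * κ (κ u / v) / u = c * v := by
    rw [div_eq_mul_inv (κ u), k.mul ku (inv_ne_zero hv), k.kap hu, k.inv hv, hc, hω]; field_simp
  have cv := mul_ne_zero c0 hv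
  rw [k.m31 e0 hu, b1, show p (u, 0, 0) = x • p (u, 0, 0) by simpa using (k.hx.2 u 0 0).symm,
    h.D_conj_smul (k.sp3 e0).1.1 k.hx.fx (by simpa using k.hx.2 0 0 (κ u / v)), e1, k.hx.2, h.αp,
    h.D_symm (k.sp3 e0).1.1 (k.sp2 cv).1.1] at e2
  have e3 := (k.sp2 cv).1.rel (p (0, 0, κ u / v))
  have a1 : ω ^ 2 * κ (c * v) / (κ u / v) = c * u := by
    rw [k.mul c0 hv, kc, hω]
    nth_rewrite 1 [sq c]
    nth_rewrite 2 [hc]
    field_simp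
  have z := k.hx.mul k.hy
  rw [k.m23 cv e0, a1, show p (0, 0, κ u / v) = (x * y) • p (0, 0, κ u / v) by
      simpa using (z.2 0 0 (κ u / v)).symm,
    h.D_conj_smul (k.sp2 cv).1.1 z.fx (by simpa using z.2 0 (c * v) 0), e2, z.2, h.αp,
    h.D_symm (k.sp2 cv).1.1 (k.sp _ (mul_ne_zero c0 hu)).1] at e3
  obtain ⟨t, l⟩ := k.scal c0 kc
  rw [show p (0, c * v, 0) = t • p (0, v, 0) by simpa using (l.2 0 v 0).symm,
    h.D_conj_smul (k.sp u hu).1 l.fx (by simpa using l.2 u 0 0), ← e, l.2] at e3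
  have e4 := h.inj e3
  simp only [Prod.mk_add_mk, Prod.mk.injEq] at e4
  obtain ⟨f1, f2, f3⟩ := e4
  have c1 : 1 - c ≠ 0 := fun e' => hu (by linear_combination f1 + u₁ * e')
  refine ⟨c, hc, fun e' => c1 (by rw [e', sub_self]), kc, e.symm.trans (congrArg p ?_)⟩
  simp only [Prod.mk.injEq, eq_div_iff c1]
  exact ⟨by linear_combination -f1, by linear_combination -f2, by linear_combination -f3⟩

theorem false : False := by
  have b := k.β0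
  have hω : ω = (β ^ 2)⁻¹ := eq_inv_of_mul_eq_one_left k.e1
  obtain ⟨c, hc, c1, kc, e1⟩ := k.sum one_ne_zero one_ne_zero
  replace c1 : 1 - c ≠ 0 := sub_ne_zero.2 c1.symm
  replace hc : c = β ^ 4 := by rw [hc, k.e2]; field_simp
  have c0 : c ≠ 0 := hc ▸ pow_ne_zero 4 b
  obtain ⟨s, hs⟩ : ∃ s, s = 1 / (1 - c) := ⟨_, rfl⟩
  have s0 : s ≠ 0 := by simp [hs, c1]
  have ks := k.ne s s0
  have q := k.sp s s0
  obtain ⟨d, hd, d1, -, e2⟩ := k.sum (inv_ne_zero c0) one_ne_zero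
  rw [k.inv c0, kc] at hd e2
  replace hd : d = 1 / c ^ 2 := by rw [hd, k.e2, hc]; field_simp
  have := h.D_comm q.neg.1 (k.sp2 one_ne_zero).1.1 (p (1, 0, 0))
  have n1 : -c * s ≠ 0 := by simp [c0, s0]
  have n2 : s * β ^ 2 ≠ 0 := by simp [b, s0]
  have b1 := div_ne_zero ks n2
  have b2 := div_ne_zero ks n1
  obtain ⟨c', -, c1', -, e3⟩ := k.sum (mul_ne_zero k.ω0 b1) b2
  have k1 : κ (ω * (κ s / (s * β ^ 2))) = s ^ 2 / β ^ 2 := by
    rw [k.mul k.ω0 b1, show κ s / (s * β ^ 2) = κ s / β ^ 2 * s⁻¹ by field_simp,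
      k.kk s0 (inv_ne_zero s0), k.inv s0, hω, k.inv (pow_ne_zero 2 b), sq β, k.mul b b, k.e3]
    field_simp
  have e4 := h.D_conj_smul (k.sp2 b1).1.1 k.gf (s' := (ω * (κ s / (s * β ^ 2)), 0, 0))
    (by simpa using k.hg 0 _ 0) (p (0, 0, κ s / (-c * s)))
  rw [k.g3, e3, k1, mul_div_assoc ω, ← k.hg] at e4
  rw [h.D_symm (k.sp2 one_ne_zero).1.1 (k.sp 1 one_ne_zero).1, e1, q.neg.D_smul, q.neg.D_smul, q.μ_neg,
    inv_inv, show ((1 : F), (0 : F), (0 : F)) + -(s, 0, 0) = (-c * s, 0, 0) by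
      simp only [Prod.neg_mk, Prod.mk_add_mk, neg_zero, add_zero, hs]; congr 1; field_simp; ring,
    k.m1 s s0 _ n1, h.αp, show (-s ^ 2 / (-c * s), (0 : F), (0 : F)) + -(s, 0, 0) =
      (c⁻¹, 0, 0) by
        simp only [Prod.neg_mk, Prod.mk_add_mk, neg_zero, add_zero, hs]; congr 1; field_simp; ring,
    h.D_symm (k.sp2 one_ne_zero).1.1 (k.sp _ (inv_ne_zero c0)).1, e2,
    show (1 / (1 - c), -c * 1 / (1 - c), -(κ 1 / 1) / (1 - c)) + -(s, 0, 0) =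
      ((0 : F), -c * s, (0 : F)) + (0, 0, -(s * β ^ 2)) by
        simp only [Prod.neg_mk, Prod.mk_add_mk, neg_zero, add_zero, zero_add, hs, k.e2, Prod.mk.injEq]
        exact ⟨by ring, by ring, by ring⟩,
    h.sw_add q.sw (k.m3 s s0 _ (neg_ne_zero.2 n2)), neg_div_neg_eq, k.m2 s s0 _ n1,
    ← smul_left_cancel g e4, h.αp] at this
  have e5 := h.inj this
  simp only [Prod.neg_mk, Prod.mk_add_mk, neg_zero, add_zero, Prod.mk.injEq] at e5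
  obtain ⟨f1, f2, f3⟩ := e5
  replace c1' : 1 - c' ≠ 0 := sub_ne_zero.2 c1'.symm
  have d2 : c ^ 2 - 1 ≠ 0 := fun e => d1 (by rw [hd, sub_eq_zero.1 e, div_one])
  have d3 : 1 - d = (c ^ 2 - 1) / c ^ 2 := by rw [hd]; field_simp
  rw [d3] at f1 f2 f3
  rw [hd] at f2
  rw [← hc] at f3
  field_simp at f1 f2 f3
  have g1 : c' = c := mul_left_cancel₀ (mul_ne_zero (mul_ne_zero (pow_ne_zero 2 b) ks) d2) (by
    linear_combination f3 - β ^ 2 * c * f2 - s * c * (1 - c') * hc)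
  rw [g1] at f1 f2
  have g2 : s * (1 - c) = 1 := by rw [hs]; field_simp
  have g3 : κ s * (c ^ 2 - 1) = -β ^ 2 := by linear_combination f2 - β ^ 2 * g2
  have g4 : c * ((c + 1) ^ 2 * s + c - 1) = 0 := by
    linear_combination (c ^ 2 - 1) * f1 + β ^ 2 * (1 - c) * (s * (c ^ 2 - 1) + c) * g3 +
      (1 - c) * (s * (c ^ 2 - 1) + c) * hc - (c * (c ^ 2 - 1) +
        c * (c + 1) ^ 2 * s * (s * (1 - c) + 1)) * g2
  refine mul_ne_zero (mul_ne_zero k.two k.two) c0 ?_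
  linear_combination (1 - c) * (mul_eq_zero.1 g4).resolve_left c0 - (c + 1) ^ 2 * g2

end SC

end Cfsg.Lib.HKS
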