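import Cfsg.Agent.Lib.HKS.M3

/-!
(H2), the computations: a special Moufang set with abelian root groups which is the sum of two
projective lines is a projective line over a quadratic extension.
-/

set_option autoImplicit false

namespace Cfsg.Lib.HKS

section Alg

variable {K K' : Type*} [Field K] [Field K'] [Finite K] {ν : K} {M : K → K'} {N : K' → K}

theorem sq_cases (hν : ¬ IsSquare ν) {c : K} (hc : c ≠ 0) : ∃ d, d ≠ 0 ∧ (c = d ^ 2 ∨ c = ν * d ^ 2) := by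
  have h0 : ν ≠ 0 := fun e => hν (by simp [e])
  by_cases h : IsSquare c
  · obtain ⟨d, rfl⟩ := h
    exact ⟨d, left_ne_zero_of_mul hc, .inl (sq d).symm⟩
  · obtain ⟨d, e⟩ := sq_mul_of_not hν h
    exact ⟨d / ν, div_ne_zero (left_ne_zero_of_mul (e ▸ mul_ne_zero h0 hc)) h0, .inr (by
      field_simp; linear_combination e)⟩

theorem exists_theta (hν : ¬ IsSquare ν) (h0 : M 1 ≠ 0) (h1 : ∀ c, M (-c) = M c)
    (h2 : ∀ c d, c ≠ 0 → d ≠ 0 → M (d ^ 2 * c) = (M d / M 1) ^ 2 * M c)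
    (h3 : ∀ c, c ≠ 0 → M (ν * c) = M c / M 1 ^ 2) :
    ∃ θ : K →*₀ K', (∀ d, d ≠ 0 → θ d ^ 2 = M d / M 1) ∧ θ ν = (M 1)⁻¹ := by
  have n0 : ν ≠ 0 := fun e => hν (by simp [e])
  have m : ∀ c d, c ≠ 0 → d ≠ 0 → M (c * d) = M c * M d / M 1 := fun c d hc hd => by
    obtain ⟨c, h, rfl | rfl⟩ := sq_cases hν hc
    · rw [h2 _ _ hd h, ← mul_one (c ^ 2), h2 _ _ one_ne_zero h]; field_simp
    · rw [mul_assoc, h3 _ (by simp [*]), h3 _ (by simp [*]), h2 _ _ hd h, ← mul_one (c ^ 2),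
        h2 _ _ one_ne_zero h]; field_simp
  have k : ∀ d e, d ^ 2 = e ^ 2 → M d = M e := fun d e h => by
    rcases sq_eq_sq_iff_eq_or_eq_neg.1 h with rfl | rfl
    exacts [rfl, h1 _]
  have k' : ∀ d e : K, e ≠ 0 → d ^ 2 ≠ ν * e ^ 2 := fun d e he h =>
    hν ⟨d / e, by field_simp; linear_combination -h⟩
  have ex : ∀ c, ∃ y, (c = 0 → y = 0) ∧ ∀ d, d ≠ 0 →
      (c = d ^ 2 → y = M d / M 1) ∧ (c = ν * d ^ 2 → y = M d / M 1 ^ 2) := fun c => by
    rcases eq_or_ne c 0 with rfl | hc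
    · exact ⟨0, fun _ => rfl, fun d hd => ⟨fun e => absurd e.symm (by simp [hd]),
        fun e => absurd e.symm (by simp [hd, n0])⟩⟩
    obtain ⟨d, hd, rfl | rfl⟩ := sq_cases hν hc
    · exact ⟨M d / M 1, fun e => absurd e hc, fun e he => ⟨fun l => by rw [k d e l],
        fun l => absurd l (k' _ _ he)⟩⟩
    · exact ⟨M d / M 1 ^ 2, fun e => absurd e hc, fun e he => ⟨fun l => absurd l.symm (k' _ _ hd),
        fun l => by rw [k d e (mul_left_cancel₀ n0 l)]⟩⟩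
  choose θ t0 t using ex
  have t1 : ∀ d, d ≠ 0 → θ (d ^ 2) = M d / M 1 := fun d hd => (t _ d hd).1 rfl
  have t2 : ∀ d, d ≠ 0 → θ (ν * d ^ 2) = M d / M 1 ^ 2 := fun d hd => (t _ d hd).2 rfl
  have mul : ∀ c d, θ (c * d) = θ c * θ d := fun c d => by
    rcases eq_or_ne c 0 with rfl | hc
    · simp [t0 0 rfl]
    rcases eq_or_ne d 0 with rfl | hd
    · simp [t0 0 rfl]
    obtain ⟨c, h, rfl | rfl⟩ := sq_cases hν hc <;> obtain ⟨d, h', rfl | rfl⟩ := sq_cases hν hd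
    · rw [← mul_pow, t1 _ (by simp [*]), t1 _ h, t1 _ h', m _ _ h h']; field_simp
    · rw [mul_left_comm, ← mul_pow, t2 _ (by simp [*]), t1 _ h, t2 _ h', m _ _ h h']; field_simp
    · rw [mul_assoc, ← mul_pow, t2 _ (by simp [*]), t2 _ h, t1 _ h', m _ _ h h']; field_simp
    · rw [show ν * c ^ 2 * (ν * d ^ 2) = (ν * (c * d)) ^ 2 by ring, t1 _ (by simp [*]), t2 _ h, t2 _ h',
        h3 _ (by simp [*]), m _ _ h h']; field_simp
  refine ⟨⟨⟨θ, t0 0 rfl⟩, by simpa [h0] using t1 1 one_ne_zero, mul⟩, fun d hd => ?_, ?_⟩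
  · exact ((sq _).trans (mul d d).symm).trans (sq d ▸ t1 d hd)
  · have := t2 1 one_ne_zero
    rw [one_pow, mul_one] at this
    exact this.trans (by field_simp)

theorem theta_inv {θ : K' →*₀ K} {η : K →*₀ K'} (hν : ¬ IsSquare ν) (h1 : θ (η ν) = ν)
    (h3 : ∀ c, c ≠ 0 → (θ (η c) ^ 2) ^ 2 = (c ^ 2) ^ 2) (c : K) : θ (η c) = c := by
  have h2 : ∀ c, c ≠ 0 → θ (η c) ^ 2 = c ^ 2 := fun c hc => by
    obtain ⟨d, h, rfl | rfl⟩ := sq_cases hν hc <;> simp only [map_pow, map_mul, mul_pow, h1, h3 d h]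
  rcases eq_or_ne c 0 with rfl | hc
  · simp
  obtain ⟨d, h, rfl | rfl⟩ := sq_cases hν hc <;> simp only [map_pow, map_mul, h1, h2 d h]

theorem eps_one {ε : K → K} (hν : ¬ IsSquare ν) (h1 : IsSquare (-1 : K)) (h2 : (2 : K) ≠ 0)
    (e0 : ε 0 = 1) (ev : ∀ c, ε (-c) = ε c) (sq : ∀ c, ε c * ε c = 1)
    (br : ∀ c d, c ≠ d → ε c = ε d * ε ((c * d - ν) / (c - d))) (c : K) : ε c = 1 := by
  have n0 : ν ≠ 0 := fun e => hν (by simp [e])
  have k : ∀ c, IsSquare (c ^ 2 - ν) → ε c = 1 := fun c ⟨s, e⟩ => by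
    have h0 : c + s ≠ 0 := fun l => n0 (by linear_combination -e + (c - s) * l)
    have := br (c + s) (-(c + s)) fun l => mul_ne_zero h2 h0 (by linear_combination l)
    rw [ev, show ((c + s) * -(c + s) - ν) / (c + s - -(c + s)) = -c by
      rw [div_eq_iff fun l => mul_ne_zero h2 h0 (by linear_combination l)]; linear_combination e, ev] at this
    linear_combination -ε (c + s) * this + (1 - ε c) * sq (c + s)
  by_cases h : IsSquare (c ^ 2 - ν)
  · exact k c h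
  rcases eq_or_ne c 0 with rfl | hc
  · exact e0
  obtain ⟨i, hi⟩ := h1
  obtain ⟨s, hs⟩ := sq_mul_of_not hν h
  rw [br c 0 hc, e0, one_mul]
  exact k _ ⟨i * s / c, by
    rw [mul_zero, sub_zero]; field_simp; linear_combination s ^ 2 * hi - hs⟩

theorem add_of_sub {θ : K →*₀ K'} (hν : ¬ IsSquare ν) (h1 : IsSquare (-1 : K)) (h2 : (2 : K) ≠ 0)
    (hn : θ (-1) = -1) (h : ∀ c, θ (c ^ 2 - ν) = θ c ^ 2 - θ ν) (c d : K) : θ (c + d) = θ c + θ d := by
  have n0 : ν ≠ 0 := fun e => hν (by simp [e])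
  obtain ⟨i, hi⟩ := h1
  have i0 : i ≠ 0 := fun e => by simp [e] at hi
  have k : ∀ c d, c ≠ 0 → ¬ IsSquare (d / c) → θ (c + d) = θ c + θ d := fun c d hc l => by
    obtain ⟨v, hv, e | e⟩ := sq_cases hν (c := d / c) fun e => l (by simp [e])
    · exact (l ⟨v, e.trans (sq v)⟩).elim
    have e1 : c = -(c * v ^ 2) * (i / v) ^ 2 := by field_simp; linear_combination -hi
    have e2 : d = -1 * (-(c * v ^ 2) * ν) := by rw [div_eq_iff hc] at e; linear_combination e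
    rw [show c + d = -(c * v ^ 2) * ((i / v) ^ 2 - ν) by linear_combination e1 + e2, map_mul, h,
      congrArg θ e2, congrArg θ e1, map_mul, map_mul, map_mul, hn, map_pow]; ring
  rcases eq_or_ne c 0 with rfl | hc
  · simp
  by_cases l : ¬ IsSquare (d / c)
  · exact k c d hc l
  rcases eq_or_ne d 0 with rfl | hd
  · simp
  rcases eq_or_ne (c + d) 0 with e | e
  · rw [e, eq_neg_of_add_eq_zero_right e, ← neg_one_mul, map_mul, hn]; simp
  by_cases l' : ¬ IsSquare ((c + d) / c)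
  · have := k (-1 * c) (c + d) (by simpa) fun ⟨r, hr⟩ => l' ⟨i * r, by
      field_simp at hr ⊢; linear_combination -hr + c * r ^ 2 * hi⟩
    rw [map_mul, hn, show -1 * c + (c + d) = d by ring] at this
    linear_combination -this
  push Not at l l'
  have := Fintype.ofFinite K
  have hc2 : ringChar K ≠ 2 := fun e => h2 (by simpa using (ringChar.spec K 2).2 (e ▸ dvd_rfl))
  obtain ⟨u, v, e'⟩ := FiniteField.exists_root_sum_quadratic
    (f := Polynomial.C ν * Polynomial.X ^ 2 + Polynomial.C 1) (g := Polynomial.C (-ν) * Polynomial.X ^ 2)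
    (by compute_degree!) (by compute_degree!) (FiniteField.odd_card_of_char_ne_two hc2)
  replace e' : 1 + ν * u ^ 2 = ν * v ^ 2 := by simp at e'; linear_combination e'
  have ns : ∀ w x : K, w ≠ 0 → x ≠ 0 → IsSquare x → ¬ IsSquare (ν * w ^ 2 * x) :=
    fun w x hw hx ⟨r, hr⟩ ⟨s, hs⟩ => hν ⟨s / (w * r), by
      have : r ≠ 0 := left_ne_zero_of_mul (hr ▸ hx)
      field_simp; linear_combination hs - ν * w ^ 2 * hr⟩
  have u0 : u ≠ 0 := fun l => ns v 1 (fun l' => by simp [l, l'] at e') one_ne_zero ⟨1, by simp⟩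
    ⟨1, by rw [← e', l]; simp⟩
  have v0 : v ≠ 0 := fun l => ns u 1 u0 one_ne_zero ⟨1, by simp⟩
    ⟨i, by rw [l] at e'; linear_combination e' + hi⟩
  have a1 := k d (ν * u ^ 2 * d) hd (by simpa [hd] using ns u 1 u0 one_ne_zero ⟨1, by simp⟩)
  have a2 := k c (d + ν * u ^ 2 * d) hc (by
    rw [show (d + ν * u ^ 2 * d) / c = ν * v ^ 2 * (d / c) by rw [← e']; ring]
    exact ns v _ v0 (by simp [*]) l)
  have a3 := k (c + d) (ν * u ^ 2 * d) e (by
    rw [show ν * u ^ 2 * d / (c + d) = ν * u ^ 2 * (d / c / ((c + d) / c)) by field_simp]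
    exact ns u _ u0 (by simp [*]) (l.div l'))
  rw [← add_assoc, a3, a1] at a2
  linear_combination a2

end Alg

variable {G Ω A K K' : Type*} [Group G] [MulAction G Ω] [AddCommGroup A] [Field K] [Field K'] {a : Ω}
  {p : A → Ω} {α : A → G} {j g n n' t x y : G} {s z : A} {h : MC a p α j} {e : K →+ A} {e' : K' →+ A}
  {β γ c u w : K} {β' γ' f v : K'}

/-- `t` acts as `-1` and commutes with the elements interchanging the base points. -/
structure MT (h : MC a p α j) (t : G) : Prop where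
  ta : t • a = a
  tp : ∀ s, t • p s = p (-s)
  cen : ∀ n : G, Sw2 a (p 0) n → n * t = t * n
  half : ∀ s : A, s + s = 0 → s = 0

namespace MT

variable (k : MT h t)
include k

theorem fx : Fx2 a (p 0) t := ⟨k.ta, by rw [k.tp, neg_zero]⟩

theorem t2 : t * t = 1 :=
  h.ext (by rw [mul_smul, k.ta, k.ta, one_smul]) fun _ => by rw [mul_smul, k.tp, k.tp, neg_neg, one_smul]

theorem sp (hs : s ≠ 0) : h.Sp s := by
  obtain ⟨⟨u, e1⟩, -⟩ := h.D_spec hs
  have e2 := h.conj_D hs k.fx (k.tp s)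
  rw [e1, show t * (j * α u * j⁻¹) * t⁻¹ = t * j * α u * (t * j)⁻¹ by group, ← k.cen j ⟨h.j1, h.j2⟩,
    show j * t * α u * (j * t)⁻¹ = j * (t * α u * t⁻¹) * j⁻¹ by group, h.conj_α k.fx (k.tp u), h.α_neg,
    ← conj_inv, ← e1] at e2
  exact ⟨hs, by rw [← (h.D_spec (neg_ne_zero.2 hs)).2, ← e2, smul_inv_smul]⟩

theorem inv (hs : s ≠ 0) : (h.μ s)⁻¹ = h.μ s := by
  rw [← (k.sp hs).conj_neg k.fx (k.tp s), ← k.cen _ (k.sp hs).sw, mul_inv_cancel_right]

theorem μ2 (hs : s ≠ 0) : h.μ s * h.μ s = 1 := by nth_rewrite 1 [← k.inv hs]; exact inv_mul_cancel _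

theorem neg (hs : s ≠ 0) : h.μ (-s) = h.μ s := (k.sp hs).μ_neg.trans (k.inv hs)

theorem lstar (hs : s ≠ 0) (hz : z ≠ 0) (l : h.μ s • p z = p (-z)) : s + z = 0 ∨ s + -z = 0 := by
  by_contra! m
  have f := (k.sp hs).sw.mul (k.sp hz).sw
  have e1 : (h.μ s * h.μ z) • p z = p z := by
    rw [mul_smul, (k.sp hz).self, ← l, ← mul_smul, k.μ2 hs, one_smul]
  have e2 : h.μ s * h.μ z * (h.μ s * h.μ z) = 1 := by
    rw [mul_assoc, ← (k.sp hz).comm f e1, mul_assoc, k.μ2 hz, mul_one, k.μ2 hs]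
  have e3 := (k.sp hs).inverts (k.sp hz) m.1 f e2 (by rw [mul_inv_cancel_right, k.inv hs])
  have e4 := (k.sp hs).inverts (k.sp hz).neg m.2 f e2 (by rw [k.neg hz, mul_inv_cancel_right, k.inv hs])
  have e5 := h.add f (h.add f e3 e1) e1
  rw [show s - z + z + z = s - -z by abel, e4] at e5
  refine hz (k.half _ (k.half _ ?_))
  rw [← sub_eq_zero.2 (h.inj e5).symm]; abel

end MT

/-- `n` acts on the line as `w ↦ β / w`. -/
def Sv (p : A → Ω) (e : K →+ A) (n : G) (β : K) : Prop := ∀ w, w ≠ 0 → n • p (e w) = p (e (β / w))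

/-- `g` acts on the line as `w ↦ γ w`. -/
def Dv (p : A → Ω) (e : K →+ A) (g : G) (γ : K) : Prop := ∀ w, g • p (e w) = p (e (γ * w))

theorem Sv.mul (k : Sv p e n β) (k' : Sv p e n' γ) (h0 : γ ≠ 0) (l : Fx2 a (p 0) (n * n')) :
    Dv p e (n * n') (β / γ) := fun w => by
  rcases eq_or_ne w 0 with rfl | hw
  · simpa using l.2
  rw [mul_smul, k' w hw, k _ (div_ne_zero h0 hw), div_div_eq_mul_div, div_mul_eq_mul_div]

/-- The fixed points of `x` form a projective line. -/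
structure Ax (h : MC a p α j) (x : G) (e : K →+ A) : Prop where
  fx : Fx2 a (p 0) x
  inj : Function.Injective e
  xe : ∀ w, x • p (e w) = p (e w)
  sw : ∃ n : G, Sw2 a (p 0) n ∧ Sv p e n (-1)
  fpf : ∀ n : G, Sw2 a (p 0) n → n * n = 1 → n * x = x * n → (∀ w, w ≠ 0 → n • p (e w) ≠ p (e w)) →
    ∃ β, ¬ IsSquare β ∧ Sv p e n β
  i : IsSquare (-1 : K)
  two : (2 : K) ≠ 0

namespace Ax

variable (k : MT h t) (X : Ax h x e)
include X

theorem e0 (hc : c ≠ 0) : e c ≠ 0 := fun l => hc (X.inj (l.trans (map_zero e).symm))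

theorem eq (l : p (e c) = p (e u)) : c = u := X.inj (h.inj l)

include k

theorem m1 (hc : c ≠ 0) : Sv p e (h.μ (e c)) (-c ^ 2) := fun w hw => by
  rcases eq_or_ne w (-c) with rfl | l
  · rw [map_neg, (k.sp (X.e0 hc)).neg_self]; congr 2; field_simp
  have l' : w + c ≠ 0 := fun e' => l (eq_neg_of_add_eq_zero_left e')
  obtain ⟨n, l1, m⟩ := X.sw
  have e1 := m c⁻¹ (by simpa)
  have e2 := m (-(w + c)⁻¹) (by simpa)
  rw [show -1 / c⁻¹ = -c by field_simp] at e1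
  rw [show -1 / -(w + c)⁻¹ = w + c by field_simp] at e2
  rw [MC.μ, mul_smul, mul_smul, h.αp, ← (k.sp (X.e0 hc)).D_neg, ← map_add, ← map_neg, ← e2,
    ← h.sw_add l1 e1, ← map_add, show -(w + c)⁻¹ + c⁻¹ = w / ((w + c) * c) by field_simp; ring,
    m _ (by simp [*]), h.αp, ← map_add]
  congr 2; field_simp; ring

variable (Y : Ax h y e') (xy : ∀ w, y • p (e w) = p (-e w))
include Y xy

theorem ind (l : e c + e' f = e u + e' v) : c = u ∧ f = v := by
  have e1 := h.add Y.fx (xy c) (Y.xe f)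
  rw [l, h.add Y.fx (xy u) (Y.xe v)] at e1
  have : e' f = e' v := sub_eq_zero.1 (k.half _ (by
    rw [← add_zero (0 : A)]; nth_rewrite 1 [← sub_eq_zero.2 l, ← sub_eq_zero.2 (h.inj e1).symm]; abel))
  exact ⟨X.inj (add_right_cancel (this ▸ l)), Y.inj this⟩

theorem exM : ∃ M : K → K', (∀ c, M (-c) = M c) ∧ ∀ c, c ≠ 0 → ¬ IsSquare (M c) ∧ M c ≠ 0 ∧
    Sv p e' (h.μ (e c)) (-M c) := by
  have : ∀ c, ∃ β, (c = 0 → β = 0) ∧ (c ≠ 0 → ¬ IsSquare β ∧ β ≠ 0 ∧ Sv p e' (h.μ (e c)) (-β)) := by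
    intro c
    rcases eq_or_ne c 0 with rfl | hc
    · exact ⟨0, fun _ => rfl, fun l => absurd rfl l⟩
    have q := k.sp (X.e0 hc)
    have e1 : h.μ (e c) * y = y * h.μ (e c) :=
      (mul_inv_eq_iff_eq_mul.1 ((q.conj_neg Y.fx (xy c)).trans (k.inv q.1))).symm
    have e2 : t * y = y * t := h.ext (by rw [mul_smul, mul_smul, k.ta, Y.fx.1, k.ta]) fun s => by
      obtain ⟨s', l⟩ := h.ex Y.fx.1 s
      rw [mul_smul, mul_smul, l, k.tp, k.tp, h.neg Y.fx l]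
    obtain ⟨β, b1, b2⟩ := Y.fpf (t * h.μ (e c)) (k.fx.mul_sw q.sw) (by
      rw [mul_assoc, ← mul_assoc _ t, k.cen _ q.sw, mul_assoc, k.μ2 q.1, mul_one, k.t2])
      (by rw [mul_assoc, e1, ← mul_assoc, e2, mul_assoc]) fun w hw l => by
        rw [mul_smul, ← eq_inv_smul_iff, inv_eq_of_mul_eq_one_right k.t2, k.tp] at l
        rcases k.lstar q.1 (Y.e0 hw) l with l | l
        · exact hc (X.ind k Y xy (u := 0) (v := 0) (by simpa using l)).1
        · exact hc (X.ind k Y xy (f := -w) (u := 0) (v := 0) (by simpa using l)).1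
    exact ⟨β, fun l => absurd l hc, fun _ => ⟨b1, fun l => b1 (by simp [l]), fun w hw => by
      rw [neg_div, map_neg, ← k.tp, ← b2 w hw, ← mul_smul, ← mul_assoc, k.t2, one_mul]⟩⟩
  choose M M0 hM using this
  refine ⟨M, fun c => ?_, hM⟩
  rcases eq_or_ne c 0 with rfl | hc
  · rw [neg_zero]
  have := (hM _ (neg_ne_zero.2 hc)).2.2 1 one_ne_zero
  rw [map_neg, k.neg (X.e0 hc), (hM c hc).2.2 1 one_ne_zero] at this
  simpa using (Y.eq this).symm

omit xy in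
theorem rel {M : K → K'} (hM : ∀ c, c ≠ 0 → ¬ IsSquare (M c) ∧ M c ≠ 0 ∧ Sv p e' (h.μ (e c)) (-M c))
    (l : Fx2 a (p 0) g) (h1 : Dv p e g γ) (h2 : Dv p e' g γ') (hc : c ≠ 0) :
    M (γ * c) = γ' ^ 2 * M c := by
  obtain ⟨q, e1⟩ := (k.sp (X.e0 hc)).conj l (h1 c)
  have n1 : γ * c ≠ 0 := fun l => q.1 (by simp [l])
  have n2 : γ' * 1 ≠ 0 := fun l' => Y.e0 one_ne_zero (h.inj (smul_left_cancel g (by simp [h2 1, l', l.2])))
  have := (hM _ n1).2.2 _ n2
  rw [← e1, ← h2, mul_smul, mul_smul, inv_smul_smul, (hM c hc).2.2 1 one_ne_zero, h2] at this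
  have := Y.eq this
  rw [mul_one] at n2
  field_simp at this
  linear_combination this

theorem tau {M : K → K'} {N : K' → K}
    (hM : ∀ c, c ≠ 0 → ¬ IsSquare (M c) ∧ M c ≠ 0 ∧ Sv p e' (h.μ (e c)) (-M c))
    (hN : ∀ f, f ≠ 0 → ¬ IsSquare (N f) ∧ N f ≠ 0 ∧ Sv p e (h.μ (e' f)) (-N f))
    (dec : ∀ s, ∃ u v, s = e u + e' v) (hc : c ≠ 0) (hf : f ≠ 0) :
    h.μ (e 1) • p (e c + e' f) = p (e (-c / (c ^ 2 - N f)) + e' (f * M 1 / (M c - f ^ 2))) := by
  have q := k.sp (X.e0 hc)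
  have q' := k.sp (Y.e0 hf)
  have q1 := k.sp (X.e0 one_ne_zero)
  obtain ⟨z, e1⟩ := h.surj (h.μ (e c) • p (e c + e' f)) fun l => hc (X.ind k Y xy (u := 0) (v := 0)
    (by simpa using h.inj (smul_left_cancel _ (l.trans q.sw.2.symm)))).1
  obtain ⟨u, v, rfl⟩ := dec z
  have e2 : p (e c + e' f) = h.μ (e c) • p (e u + e' v) := by rw [e1, ← mul_smul, k.μ2 q.1, one_smul]
  have e3 := h.D_symm q.1 q'.1
  have l := q'.sw.mul q.sw
  have l' := q1.sw.mul q.sw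
  have c2 : -c ^ 2 ≠ 0 := by simpa
  have m0 := neg_ne_zero.2 (hM c hc).2.1
  rw [q.D_smul, q'.D_smul, k.inv q.1, k.inv q'.1, add_comm (e' f), ← e1, e2, ← mul_smul (h.μ _),
    h.add l (((hN f hf).2.2.mul (X.m1 k hc) c2 l) u) (((Y.m1 k hf).mul (hM c hc).2.2 m0 l) v), h.αp,
    h.αp, add_right_comm, add_assoc _ _ (e' f), ← map_add, ← map_add] at e3
  obtain ⟨e4, e5⟩ := X.ind k Y xy (h.inj e3)
  have m1 := (hM c hc).2.1
  have d1 : c ^ 2 - N f ≠ 0 := fun l => (hN f hf).1 ⟨c, by linear_combination -l⟩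
  have d2 : M c - f ^ 2 ≠ 0 := fun l => (hM c hc).1 ⟨f, by linear_combination l⟩
  rw [e2, ← mul_smul, h.add l' (((X.m1 k one_ne_zero).mul (X.m1 k hc) c2 l') u)
    (((hM 1 one_ne_zero).2.2.mul (hM c hc).2.2 m0 l') v)]
  congr 3 <;> field_simp at e4 e5 ⊢ <;> [linear_combination e4; linear_combination M 1 * e5]

/-- The second line is `√ν` times the first one. -/
theorem quad [Finite K] [Finite K'] (yx : ∀ w, x • p (e' w) = p (-e' w))
    (dec : ∀ s, ∃ u v, s = e u + e' v) : ∃ (ν : K) (θ : K →+ K'), ¬ IsSquare ν ∧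
      Function.Bijective θ ∧ ∀ c u, c ^ 2 - ν * u ^ 2 ≠ 0 → h.μ (e 1) • p (e c + e' (θ u)) =
        p (e (-c / (c ^ 2 - ν * u ^ 2)) + e' (θ (u / (c ^ 2 - ν * u ^ 2)))) := by
  obtain ⟨M, M0, hM⟩ := X.exM k Y xy
  obtain ⟨N, N0, hN⟩ := Y.exM k X yx
  have o : (1 : K) ≠ 0 := one_ne_zero
  have o' : (1 : K') ≠ 0 := one_ne_zero
  have q := k.sp (X.e0 o)
  have q' := k.sp (Y.e0 o')
  have m1 := (hM 1 o).2.1
  have n1 := (hN 1 o').2.1
  have a1 : ∀ d, d ≠ 0 → ∃ g : G, Fx2 a (p 0) g ∧ Dv p e g (d ^ 2) ∧ Dv p e' g (M d / M 1) := fun d hd =>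
    have l := (k.sp (X.e0 hd)).sw.mul q.sw
    ⟨_, l, by simpa using (X.m1 k hd).mul (X.m1 k o) (by simp) l,
      by simpa using (hM d hd).2.2.mul (hM 1 o).2.2 (by simpa) l⟩
  have a2 : ∀ d, d ≠ 0 → ∃ g : G, Fx2 a (p 0) g ∧ Dv p e' g (d ^ 2) ∧ Dv p e g (N d / N 1) := fun d hd =>
    have l := (k.sp (Y.e0 hd)).sw.mul q'.sw
    ⟨_, l, by simpa using (Y.m1 k hd).mul (Y.m1 k o') (by simp) l,
      by simpa using (hN d hd).2.2.mul (hN 1 o').2.2 (by simpa) l⟩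
  obtain ⟨θ, t1, t2⟩ := exists_theta (hN 1 o').1 m1 M0 (fun c d hc hd =>
    let ⟨_, l, l1, l2⟩ := a1 d hd; X.rel k Y hM l l1 l2 hc) fun c hc => by
      have l := q'.sw.mul q.sw
      simpa [div_eq_inv_mul] using X.rel k Y hM l ((hN 1 o').2.2.mul (X.m1 k o) (by simp) l)
        ((Y.m1 k o').mul (hM 1 o).2.2 (by simpa) l) hc
  obtain ⟨η, s1, s2⟩ := exists_theta (hM 1 o).1 n1 N0 (fun c d hc hd =>
    let ⟨_, l, l1, l2⟩ := a2 d hd; Y.rel k X hN l l1 l2 hc) fun c hc => by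
      have l := q.sw.mul q'.sw
      simpa [div_eq_inv_mul] using Y.rel k X hN l ((hM 1 o).2.2.mul (Y.m1 k o') (by simp) l)
        ((X.m1 k o).mul (hN 1 o').2.2 (by simpa) l) hc
  have i1 : ∀ c, θ (η c) = c := theta_inv (hM 1 o).1 (by rw [s2, map_inv₀, t2, inv_inv]) fun c hc => by
    obtain ⟨_, l, l1, l2⟩ := a2 c hc
    have := X.rel k Y hM l l2 l1 o
    rw [← map_pow, s1 c hc, t1 _ (div_ne_zero (hN c hc).2.1 n1), ← mul_one (N c / N 1), this,
      mul_div_cancel_right₀ _ m1]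
  have i2 : ∀ c, η (θ c) = c := theta_inv (hN 1 o').1 (by rw [t2, map_inv₀, s2, inv_inv]) fun c hc => by
    obtain ⟨_, l, l1, l2⟩ := a1 c hc
    have := Y.rel k X hN l l2 l1 o'
    rw [← map_pow, t1 c hc, s1 _ (div_ne_zero (hM c hc).2.1 m1), ← mul_one (M c / M 1), this,
      mul_div_cancel_right₀ _ n1]
  have ti : Function.Injective θ := Function.LeftInverse.injective i2
  have tn : θ (-1) = -1 := (sq_eq_one_iff.1 (by rw [← map_pow]; simp)).resolve_left fun l =>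
    X.two (by linear_combination -ti (l.trans (map_one θ).symm))
  set ν := N 1
  have hν := (hN 1 o').1
  have D0 : ∀ c u : K, u ≠ 0 → c ^ 2 - ν * u ^ 2 ≠ 0 := fun c u hu l =>
    hν ⟨c / u, by field_simp; linear_combination -l⟩
  have F : ∀ c u, u ≠ 0 → h.μ (e 1) • p (e c + e' (θ u)) =
      p (e (-c / (c ^ 2 - ν * u ^ 2)) + e' (θ u / (θ c ^ 2 - θ ν * θ u ^ 2))) := fun c u hu => by
    have u0 := (map_ne_zero θ).2 hu
    rcases eq_or_ne c 0 with rfl | hc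
    · simp only [map_zero, zero_add, neg_zero, zero_div, (hM 1 o).2.2 _ u0, t2]
      congr 2; field_simp; simp
    have e1 := s1 _ u0
    have e2 := t1 c hc
    rw [i2, eq_div_iff n1] at e1
    rw [eq_div_iff m1] at e2
    rw [X.tau k Y xy hM hN dec hc u0, ← e1, ← e2, t2, mul_comm ν]
    congr 3
    rw [show θ c ^ 2 * M 1 - θ u ^ 2 = (θ c ^ 2 - (M 1)⁻¹ * θ u ^ 2) * M 1 by field_simp,
      mul_div_mul_right _ _ m1]
  classical
  let ε : K → K := fun c => if θ (c ^ 2 - ν) = θ c ^ 2 - θ ν then 1 else -1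
  have T : ∀ c u, u ≠ 0 → h.μ (e 1) • p (e c + e' (θ u)) = p (e (-c / (c ^ 2 - ν * u ^ 2)) +
      e' (θ (ε (c / u) * u / (c ^ 2 - ν * u ^ 2)))) := fun c u hu => by
    have u0 := (map_ne_zero θ).2 hu
    have d0 := D0 c u hu
    have key : θ ((c / u) ^ 2 - ν) = θ (c / u) ^ 2 - θ ν ↔
        θ (c ^ 2 - ν * u ^ 2) = θ c ^ 2 - θ ν * θ u ^ 2 := by
      rw [show (c / u) ^ 2 - ν = (c ^ 2 - ν * u ^ 2) / u ^ 2 by field_simp, map_div₀, map_div₀, map_pow,
        div_eq_iff (pow_ne_zero 2 u0), sub_mul, div_pow, div_mul_cancel₀ _ (pow_ne_zero 2 u0)]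
    have e1 := F c u hu
    by_cases l : θ ((c / u) ^ 2 - ν) = θ (c / u) ^ 2 - θ ν
    · rw [e1, show ε (c / u) = 1 from if_pos l, one_mul, map_div₀ θ, key.1 l]
    have d1 : θ c ^ 2 - θ ν * θ u ^ 2 ≠ 0 := fun l => d0 (sub_eq_zero.2 (ti (by
      rw [map_mul, map_pow, map_pow]; exact sub_eq_zero.1 l)))
    have hc : c ≠ 0 := by
      rintro rfl
      exact l (by rw [zero_div, show (0 : K) ^ 2 - ν = -1 * ν by ring, map_mul, tn]; simp)
    obtain ⟨w, e2⟩ : ∃ w, θ w = θ u / (θ c ^ 2 - θ ν * θ u ^ 2) := ⟨_, i1 _⟩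
    have w0 : w ≠ 0 := fun l => div_ne_zero u0 d1 (by rw [← e2, l, map_zero])
    have e3 := F (-c / (c ^ 2 - ν * u ^ 2)) w w0
    rw [e2, ← e1, ← mul_smul, k.μ2 q.1, one_smul] at e3
    have e4 := (X.ind k Y xy (h.inj e3)).1
    rw [eq_div_iff (D0 _ w w0)] at e4
    have e5 : w ^ 2 = (u / (c ^ 2 - ν * u ^ 2)) ^ 2 := by
      field_simp at e4 ⊢; exact mul_left_cancel₀ n1 (by linear_combination -e4)
    rw [e1, show ε (c / u) = -1 from if_neg l, ← e2, neg_one_mul, neg_div _ u,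
      (sq_eq_sq_iff_eq_or_eq_neg.1 e5).resolve_left fun l' => l (key.2 (by
        rw [l', map_div₀, div_eq_div_iff ((map_ne_zero θ).2 d0) d1] at e2
        exact (mul_left_cancel₀ u0 e2).symm))]
  have tn' : ∀ c, θ (-c) = -θ c := fun c => by rw [← neg_one_mul, map_mul, tn, neg_one_mul]
  have ev : ∀ c, ε (-c) = ε c := fun c => by simp only [ε, tn', neg_sq]
  have sq : ∀ c, ε c * ε c = 1 := fun c => by simp only [ε]; split_ifs <;> simp
  have br : ∀ w u, u ≠ 0 → ε ((w + 1) / u) = ε (w / u) * ε ((w + (w ^ 2 - ν * u ^ 2)) / u) := by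
    intro w u u0
    have ε1 := sq (w / u)
    have ε0 := left_ne_zero_of_mul (ε1 ▸ o)
    have d0 := D0 w u u0
    have d1 := D0 (w + 1) u u0
    have b := h.sw_add q.sw q.self (e w + e' (θ u))
    rw [add_right_comm, ← map_add, T _ _ u0, T _ _ u0, q.neg.D_smul, k.inv q.neg.1, k.neg q.1,
      add_right_comm, ← map_neg, ← map_add, T _ _ (div_ne_zero (mul_ne_zero ε0 u0) d0), h.αp,
      add_right_comm, ← map_add] at b
    have b1 := ti (X.ind k Y xy (h.inj b)).2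
    rw [show (-w / (w ^ 2 - ν * u ^ 2) + -1) ^ 2 - ν * (ε (w / u) * u / (w ^ 2 - ν * u ^ 2)) ^ 2 =
      ((w + 1) ^ 2 - ν * u ^ 2) / (w ^ 2 - ν * u ^ 2) by
        field_simp; linear_combination -ν * u ^ 2 * ε1, show ε (_ / (ε (w / u) * u / _)) =
      ε ((w + (w ^ 2 - ν * u ^ 2)) / u) by
        rcases mul_self_eq_one_iff.1 ε1 with l | l <;> rw [l] <;> [rw [← ev]; skip] <;> congr 1 <;>
          field_simp <;> ring] at b1
    generalize ε ((w + 1) / u) = r, ε ((w + (w ^ 2 - ν * u ^ 2)) / u) = r', ε (w / u) = r'' at b1 ⊢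
    generalize (w + 1) ^ 2 - ν * u ^ 2 = D, w ^ 2 - ν * u ^ 2 = D' at b1 d0 d1
    field_simp at b1
    linear_combination b1
  have e1 := eps_one (ε := ε) hν X.i X.two (if_pos (by simp [tn'])) ev sq fun c d hcd => by
    have cd := sub_ne_zero.2 hcd
    convert br (d / (c - d)) (c - d)⁻¹ (inv_ne_zero cd) using 3 <;> field_simp <;> ring
  have e2 : ∀ c, θ (c ^ 2 - ν) = θ c ^ 2 - θ ν := fun c => by_contra fun l =>
    X.two (by linear_combination -(if_neg l : ε c = -1).symm.trans (e1 c))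
  refine ⟨ν, .mk' θ (add_of_sub hν X.i X.two tn e2), hν, ⟨ti, fun c => ⟨_, i1 c⟩⟩, fun c u l => ?_⟩
  rcases eq_or_ne u 0 with rfl | hu
  · have hc : c ≠ 0 := fun l' => l (by simp [l'])
    simp only [map_zero, zero_div, add_zero, X.m1 k o c hc]
    congr 2; field_simp; simp
  · simpa [e1] using T c u hu

end Ax

end Cfsg.Lib.HKS
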